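import Groth.Agent.PParts.Funct
import Mathlib.RingTheory.IsTensorProduct
import Mathlib.RingTheory.Localization.Basic
import Mathlib.RingTheory.Localization.Away.Basic

/-! Principal parts under base change and localization. -/

universe u

namespace Groth.Agent.PParts

open DiffOp TensorProduct

theorem map_pow_eq_bot {R T : Type*} [CommRing R] [CommRing T] (f : R →+* T) {I : Ideal R} {k : ℕ}
    (h : I ^ k = ⊥) : I.map f ^ k = ⊥ := by
  rw [← Ideal.map_pow, h, Ideal.map_bot]

theorem eq_zero_of_mem_pow {R T : Type*} [CommRing R] [CommRing T] (f : R →+* T) {I : Ideal R} {J : Ideal T}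
    (hI : I ≤ J.comap f) {k : ℕ} (hJ : J ^ k = ⊥) {x : R} (hx : x ∈ I ^ k) : f x = 0 := by
  have h := Ideal.mem_map_of_mem f hx
  rw [Ideal.map_pow] at h
  have h2 := Ideal.pow_right_mono (Ideal.map_le_iff_le_comap.2 hI) k h
  rwa [hJ] at h2

theorem augIdeal_pow (n : ℕ) (A B : Type u) [CommRing A] [CommRing B] [Algebra A B] :
    PP16.augIdeal n A B ^ (n + 1) = ⊥ := by
  rw [PP16.augIdeal, ← Ideal.map_pow, Ideal.map_quotient_self]

section Loc

variable (n : ℕ) (A B B' : Type u) [CommRing A] [CommRing B] [Algebra A B]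
  [CommRing B'] [Algebra B B'] [Algebra A B'] [IsScalarTower A B B'] (S : Submonoid B) [IsLocalization S B']

attribute [local instance] PP16.mapAlgebra

theorem isUnit_map_left (s : S) :
    IsUnit (PP16.map n A B A B' (algebraMap B (PP16.P n A B) s)) := by
  rw [PP16.map_algebraMap]
  exact (IsLocalization.map_units B' s).map _

theorem isLocalization_P_aux (L : Type u) [CommRing L] [Algebra A L] [Algebra (PP16.P n A B) L]
    [IsScalarTower A (PP16.P n A B) L] [IsLocalization (S.map (algebraMap B (PP16.P n A B))) L] :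
    IsLocalization (S.map (algebraMap B (PP16.P n A B))) (PP16.P n A B') := by
  classical
  let M := S.map (algebraMap B (PP16.P n A B))
  let v : PP16.P n A B →+* L := algebraMap _ L
  have hvS : ∀ s : S, IsUnit (v (algebraMap B (PP16.P n A B) (s : B))) :=
    fun s => IsLocalization.map_units L (⟨_, Submonoid.mem_map_of_mem _ s.2⟩ : M)
  let J : Ideal L := (PP16.augIdeal n A B).map v
  have hJ : J ^ (n + 1) = ⊥ := map_pow_eq_bot v (augIdeal_pow n A B)
  have hdiff : ∀ b : B, v (PP16.dn n A B b) - v (algebraMap B (PP16.P n A B) b) ∈ J := fun b => by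
    rw [← map_sub]
    refine Ideal.mem_map_of_mem v ?_
    change Ideal.Quotient.mk _ ((1 : B) ⊗ₜ[A] b) - Ideal.Quotient.mk _ (b ⊗ₜ[A] (1 : B)) ∈ _
    rw [← map_sub]
    exact Ideal.mem_map_of_mem _ (zeta_mem b)
  have hnil : ∀ x ∈ J, IsNilpotent x := fun x hx => ⟨n + 1, by
    have h := Ideal.pow_mem_pow hx (n + 1)
    rwa [hJ] at h⟩
  have hvS' : ∀ s : S, IsUnit (v (PP16.dn n A B (s : B))) := fun s => by
    have h := IsNilpotent.isUnit_add_left_of_commute (hnil _ (hdiff s)) (hvS s) (Commute.all (v (PP16.dn n A B (s : B)) - v (algebraMap B (PP16.P n A B) (s : B))) (v (algebraMap B (PP16.P n A B) (s : B))))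
    rwa [add_sub_cancel] at h
  let l : B' →+* L := IsLocalization.lift (M := S) (g := v.comp (algebraMap B (PP16.P n A B))) hvS
  let r : B' →+* L := IsLocalization.lift (M := S) (g := v.comp (PP16.dn n A B).toRingHom) hvS'
  have hl : ∀ b, l (algebraMap B B' b) = v (algebraMap B (PP16.P n A B) b) :=
    fun b => IsLocalization.lift_eq (g := v.comp (algebraMap B (PP16.P n A B))) hvS b
  have hr : ∀ b, r (algebraMap B B' b) = v (PP16.dn n A B b) :=
    fun b => IsLocalization.lift_eq (g := v.comp (PP16.dn n A B).toRingHom) hvS' b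
  let la : B' →ₐ[A] L :=
    { l with
      commutes' := fun a => by
        change l (algebraMap A B' a) = _
        rw [IsScalarTower.algebraMap_apply A B B', hl, ← IsScalarTower.algebraMap_apply A B (PP16.P n A B),
          ← IsScalarTower.algebraMap_apply A (PP16.P n A B) L] }
  let ra : B' →ₐ[A] L :=
    { r with
      commutes' := fun a => by
        change r (algebraMap A B' a) = _
        rw [IsScalarTower.algebraMap_apply A B B', hr, AlgHom.commutes,
          ← IsScalarTower.algebraMap_apply A (PP16.P n A B) L] }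
  let lift2 : B' ⊗[A] B' →ₐ[A] L := Algebra.TensorProduct.lift la ra fun _ _ => Commute.all _ _
  have hlift : ∀ x, lift2 (PP16.tensorMap A B A B' x) = v (Ideal.Quotient.mk _ x) := by
    intro x
    induction x using TensorProduct.induction_on with
    | zero => simp
    | add x y hx hy => rw [map_add, map_add, hx, hy, map_add, map_add]
    | tmul b c =>
      rw [PP16.tensorMap_tmul]
      simp only [lift2, Algebra.TensorProduct.lift_tmul]
      change l (algebraMap B B' b) * r (algebraMap B B' c) = _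
      rw [hl, hr, ← map_mul]
      refine congrArg v ?_
      change Ideal.Quotient.mk _ (b ⊗ₜ[A] (1 : B)) * Ideal.Quotient.mk _ ((1 : B) ⊗ₜ[A] c) = _
      rw [← map_mul, Algebra.TensorProduct.tmul_mul_tmul, mul_one, one_mul]
  have hI : KaehlerDifferential.ideal A B' ≤ J.comap lift2 := by
    rw [ideal_eq_span, Ideal.span_le]
    rintro _ ⟨x, rfl⟩
    obtain ⟨b, s, rfl⟩ := IsLocalization.exists_mk'_eq S x
    change lift2 (zeta A _) ∈ J
    rw [zeta, map_sub]
    simp only [lift2, Algebra.TensorProduct.lift_tmul, map_one, one_mul, mul_one]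
    change r (IsLocalization.mk' B' b s) - l (IsLocalization.mk' B' b s) ∈ J
    have hu : IsUnit (r (algebraMap B B' (s : B))) := (IsLocalization.map_units B' s).map r
    rw [← Ideal.mul_unit_mem_iff_mem J hu, sub_mul, ← map_mul, IsLocalization.mk'_spec]
    have e : l (IsLocalization.mk' B' b s) * r (algebraMap B B' (s : B)) =
        l (algebraMap B B' b) + l (IsLocalization.mk' B' b s) * (r (algebraMap B B' (s : B)) - l (algebraMap B B' (s : B))) := by
      rw [← IsLocalization.mk'_spec B' b s, map_mul]; ring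
    rw [e, ← sub_sub]
    refine sub_mem ?_ (Ideal.mul_mem_left _ _ ?_)
    · rw [hr, hl]; exact hdiff b
    · rw [hr, hl]; exact hdiff s
  let bwd : PP16.P n A B' →+* L := Ideal.Quotient.lift _ lift2.toRingHom fun x hx =>
    eq_zero_of_mem_pow lift2.toRingHom hI hJ hx
  let fwd : L →+* PP16.P n A B' := IsLocalization.lift (M := M) (g := (PP16.map n A B A B').toRingHom) (by
    rintro ⟨_, ⟨s, hs, rfl⟩⟩
    exact isUnit_map_left n A B B' S ⟨s, hs⟩)
  have hfwd : ∀ p, fwd (v p) = PP16.map n A B A B' p := fun p => IsLocalization.lift_eq _ p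
  have hbf : bwd.comp fwd = RingHom.id L := IsLocalization.ringHom_ext M <| RingHom.ext fun p => by
    obtain ⟨x, rfl⟩ := Ideal.Quotient.mk_surjective p
    change bwd (fwd (v (Ideal.Quotient.mk _ x))) = v (Ideal.Quotient.mk _ x)
    rw [hfwd, PP16.map_mk]
    exact hlift x
  have hleft : fwd.comp l = algebraMap B' (PP16.P n A B') := IsLocalization.ringHom_ext S <| RingHom.ext fun b => by
    change fwd (l (algebraMap B B' b)) = _
    rw [hl, hfwd, PP16.map_algebraMap]
    rfl
  have hright : fwd.comp r = (PP16.dn n A B').toRingHom := IsLocalization.ringHom_ext S <| RingHom.ext fun b => by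
    change fwd (r (algebraMap B B' b)) = _
    rw [hr, hfwd, PP16.map_dn]
    rfl
  have hfb : fwd.comp bwd = RingHom.id (PP16.P n A B') := Ideal.Quotient.ringHom_ext <| RingHom.ext fun x => by
    change fwd (lift2 x) = Ideal.Quotient.mk _ x
    induction x using TensorProduct.induction_on with
    | zero => simp
    | add x y hx hy => rw [map_add, map_add, hx, hy, map_add]
    | tmul b c =>
      simp only [lift2, Algebra.TensorProduct.lift_tmul, map_mul]
      refine (congrArg₂ (· * ·) (DFunLike.congr_fun hleft b) (DFunLike.congr_fun hright c)).trans ?_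
      change Ideal.Quotient.mk _ (b ⊗ₜ[A] (1 : B')) * Ideal.Quotient.mk _ ((1 : B') ⊗ₜ[A] c) = _
      rw [← map_mul, Algebra.TensorProduct.tmul_mul_tmul, mul_one, one_mul]
  exact IsLocalization.isLocalization_of_algEquiv M
    (AlgEquiv.ofRingEquiv (f := RingEquiv.ofRingHom fwd bwd hfb hbf) fun p => hfwd p)

theorem isLocalization_P :
    IsLocalization (S.map (algebraMap B (PP16.P n A B))) (PP16.P n A B') :=
  isLocalization_P_aux n A B B' S (Localization (S.map (algebraMap B (PP16.P n A B))))

end Loc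

section BaseChange

variable (n : ℕ) (A B A' B' : Type u) [CommRing A] [CommRing B] [Algebra A B]
  [CommRing A'] [CommRing B'] [Algebra A' B'] [Algebra A A'] [Algebra B B'] [Algebra A B']
  [IsScalarTower A A' B'] [IsScalarTower A B B'] [Algebra.IsPushout A B A' B']

attribute [local instance] PP16.mapAlgebra PP16.isScalarTower_mapAlgebra

include A in
theorem adjoin_range_algebraMap : Algebra.adjoin A' (Set.range (algebraMap B B')) = ⊤ := by
  refine eq_top_iff.2 ?_
  rintro x -
  obtain ⟨y, rfl⟩ := (Algebra.IsPushout.equiv A B A' B').surjective x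
  induction y using TensorProduct.induction_on with
  | zero => rw [map_zero]; exact zero_mem _
  | add y z hy hz => rw [map_add]; exact add_mem hy hz
  | tmul b a =>
    rw [Algebra.IsPushout.equiv_tmul]
    exact mul_mem (Algebra.subset_adjoin ⟨b, rfl⟩) (Subalgebra.algebraMap_mem _ a)

theorem ideal_map_tensorMap' :
    (KaehlerDifferential.ideal A B).map (PP16.tensorMap A B A' B') = KaehlerDifferential.ideal A' B' := by
  rw [ideal_eq_span_of_adjoin (adjoin_range_algebraMap A B A' B'), congrArg (Ideal.map (PP16.tensorMap A B A' B'))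
    (ideal_eq_span (A := A) (B := B)), Ideal.map_span, ← Set.range_comp, ← Set.range_comp]
  exact congrArg _ (congrArg _ (funext fun b => tensorMap_zeta A B A' B' b))

theorem isPushout_P : Algebra.IsPushout B (PP16.P n A B) B' (PP16.P n A' B') := by
  let ia : B' →ₐ[A] B' ⊗[B] PP16.P n A B :=
    (Algebra.TensorProduct.includeLeft : B' →ₐ[A] B' ⊗[B] PP16.P n A B)
  let ib : PP16.P n A B →ₐ[B] B' ⊗[B] PP16.P n A B := Algebra.TensorProduct.includeRight
  let f2 : B →ₐ[A] B' ⊗[B] PP16.P n A B := (ib.restrictScalars A).comp (PP16.dn n A B)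
  let g2 : A' →ₐ[A] B' ⊗[B] PP16.P n A B := ia.comp (IsScalarTower.toAlgHom A A' B')
  let φ2 : B' →ₐ[A] B' ⊗[B] PP16.P n A B := Algebra.pushoutDesc B' f2 g2 fun x y => mul_comm (f2 x) (g2 y)
  have hφb : ∀ b, φ2 (algebraMap B B' b) = (1 : B') ⊗ₜ[B] PP16.dn n A B b := fun b =>
    Algebra.pushoutDesc_left B' f2 g2 _ b
  have hφa : ∀ a, φ2 (algebraMap A' B' a) = algebraMap A' B' a ⊗ₜ[B] (1 : PP16.P n A B) := fun a =>
    Algebra.pushoutDesc_right B' f2 g2 _ a
  let φ2' : B' →ₐ[A'] B' ⊗[B] PP16.P n A B :=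
    { φ2.toRingHom with
      commutes' := fun a => by
        change φ2 (algebraMap A' B' a) = _
        rw [hφa]
        rfl }
  let lift2 : B' ⊗[A'] B' →ₐ[B'] B' ⊗[B] PP16.P n A B :=
    Algebra.TensorProduct.lift (Algebra.ofId B' _) φ2'
      fun x y => Commute.all (Algebra.ofId B' (B' ⊗[B] PP16.P n A B) x) (φ2' y)
  have hcomp : ∀ x, lift2 (PP16.tensorMap A B A' B' x) = ib (Ideal.Quotient.mk _ x) := by
    intro x
    induction x using TensorProduct.induction_on with
    | zero => simp
    | add x y hx hy => rw [map_add, map_add, hx, hy, map_add, map_add]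
    | tmul b c =>
      rw [PP16.tensorMap_tmul]
      simp only [lift2, Algebra.TensorProduct.lift_tmul]
      change algebraMap B B' b ⊗ₜ[B] (1 : PP16.P n A B) * φ2 (algebraMap B B' c) = _
      rw [hφb, Algebra.TensorProduct.tmul_mul_tmul, mul_one, one_mul, Algebra.algebraMap_eq_smul_one,
        smul_tmul]
      refine congrArg ((1 : B') ⊗ₜ[B] ·) ?_
      rw [Algebra.smul_def]
      change Ideal.Quotient.mk _ (b ⊗ₜ[A] (1 : B)) * Ideal.Quotient.mk _ ((1 : B) ⊗ₜ[A] c) = _
      rw [← map_mul, Algebra.TensorProduct.tmul_mul_tmul, mul_one, one_mul]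
  let bwd : PP16.P n A' B' →ₐ[B'] B' ⊗[B] PP16.P n A B := Ideal.Quotient.liftₐ _ lift2 fun x hx => by
    rw [← ideal_map_tensorMap' A B A' B', ← Ideal.map_pow] at hx
    induction hx using Submodule.span_induction with
    | mem y hy =>
      obtain ⟨z, hz, rfl⟩ := hy
      rw [hcomp, Ideal.Quotient.eq_zero_iff_mem.2 hz, map_zero]
    | zero => exact map_zero _
    | add y z _ _ hy hz => rw [map_add, hy, hz, add_zero]
    | smul c y _ hy => rw [smul_eq_mul, map_mul, hy, mul_zero]
  let mb : PP16.P n A B →ₐ[B] PP16.P n A' B' :=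
    { (PP16.map n A B A' B').toRingHom with
      commutes' := fun b => by
        change PP16.map n A B A' B' (algebraMap B _ b) = _
        rw [PP16.map_algebraMap, ← IsScalarTower.algebraMap_apply B B'] }
  let fwd : B' ⊗[B] PP16.P n A B →ₐ[B'] PP16.P n A' B' :=
    Algebra.TensorProduct.lift (Algebra.ofId B' _) mb fun _ _ => Commute.all _ _
  have hfwd : ∀ p, fwd ((1 : B') ⊗ₜ[B] p) = PP16.map n A B A' B' p := fun p => by
    simp only [fwd, Algebra.TensorProduct.lift_tmul, map_one, one_mul]
    rfl
  have h1 : bwd.comp fwd = AlgHom.id B' _ := by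
    refine Algebra.TensorProduct.ext (AlgHom.ext fun b => ?_) (AlgHom.ext fun p => ?_)
    · change bwd (fwd (b ⊗ₜ[B] (1 : PP16.P n A B))) = b ⊗ₜ[B] (1 : PP16.P n A B)
      rw [show b ⊗ₜ[B] (1 : PP16.P n A B) = algebraMap B' (B' ⊗[B] PP16.P n A B) b from rfl,
        AlgHom.commutes, AlgHom.commutes]
    · change bwd (fwd ((1 : B') ⊗ₜ[B] p)) = (1 : B') ⊗ₜ[B] p
      rw [hfwd]
      obtain ⟨x, rfl⟩ := Ideal.Quotient.mk_surjective p
      rw [PP16.map_mk]
      change lift2 (PP16.tensorMap A B A' B' x) = ib (Ideal.Quotient.mk _ x)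
      exact hcomp x
  have hright : (fwd.restrictScalars A).comp φ2 = (PP16.dn n A' B').restrictScalars A := by
    refine Algebra.IsPushout.algHom_ext (R := A) (S := B) (R' := A') B' (AlgHom.ext fun a => ?_) (AlgHom.ext fun b => ?_)
    · change fwd (φ2 (algebraMap A' B' a)) = PP16.dn n A' B' (algebraMap A' B' a)
      rw [hφa, show algebraMap A' B' a ⊗ₜ[B] (1 : PP16.P n A B) =
        algebraMap B' (B' ⊗[B] PP16.P n A B) (algebraMap A' B' a) from rfl, AlgHom.commutes, AlgHom.commutes]
      exact (IsScalarTower.algebraMap_apply A' B' _ a).symm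
    · change fwd (φ2 (algebraMap B B' b)) = PP16.dn n A' B' (algebraMap B B' b)
      rw [hφb, hfwd, PP16.map_dn]
  have h2 : fwd.comp bwd = AlgHom.id B' _ := Ideal.Quotient.algHom_ext _ <|
    Algebra.TensorProduct.ext (AlgHom.ext fun b => by
      change fwd (bwd (algebraMap B' (PP16.P n A' B') b)) = algebraMap B' (PP16.P n A' B') b
      rw [AlgHom.commutes, AlgHom.commutes]) (AlgHom.ext fun c => by
      change fwd (lift2 ((1 : B') ⊗ₜ[A'] c)) = PP16.dn n A' B' c
      simp only [lift2, Algebra.TensorProduct.lift_tmul, map_one, one_mul]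
      exact AlgHom.congr_fun hright c)
  refine Algebra.IsPushout.symm ?_
  letI : Algebra (PP16.P n A B) (B' ⊗[B] PP16.P n A B) := Algebra.TensorProduct.rightAlgebra
  refine Algebra.IsPushout.of_equiv (R := B) (R' := B') (S := PP16.P n A B) (S' := B' ⊗[B] PP16.P n A B)
    (AlgEquiv.ofAlgHom fwd bwd h2 h1) (RingHom.ext fun p => ?_)
  exact hfwd p

end BaseChange

end Groth.Agent.PParts
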