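import Groth.Agent.PParts.Coord

/-! The monomial basis of truncated polynomials and of principal parts. -/

universe u

namespace Groth.Agent.PParts

open Diff16 MvPolynomial TensorProduct DiffOp

variable {A B : Type u} [CommRing A] [CommRing B] [Algebra A B] {ι : Type*} [Fintype ι]

theorem exists_basis_trunc (ι : Type*) [Fintype ι] (B : Type*) [CommRing B] (m : ℕ) :
    ∃ b : Module.Basis {p : ι → ℕ // ∑ i, p i ≤ m} B (Trunc ι B m),
      ∀ p, b p = tmk ι B m (monomial (Finsupp.equivFunOnFinite.symm p.1) 1) := by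
  classical
  let v : {p : ι → ℕ // ∑ i, p i ≤ m} → Trunc ι B m :=
    fun p => tmk ι B m (monomial (Finsupp.equivFunOnFinite.symm p.1) 1)
  have hcoeff : ∀ (p : {p : ι → ℕ // ∑ i, p i ≤ m}) (q : MvPolynomial ι B), tmk ι B m q = 0 →
      coeff (Finsupp.equivFunOnFinite.symm p.1) q = 0 := fun p q hq =>
    (mem_pow_idealOfVars_iff' _ _).1 (Ideal.Quotient.eq_zero_iff_mem.1 hq) _ (by
      have := p.2
      simp [Finsupp.degree_eq_sum]
      omega)
  have li : LinearIndependent B v := by
    rw [linearIndependent_iff']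
    intro s g hg p hp
    have h := hcoeff p (∑ x ∈ s, g x • monomial (Finsupp.equivFunOnFinite.symm x.1) 1) (by
      rw [map_sum, ← hg]
      refine Finset.sum_congr rfl fun x _ => ?_
      rfl)
    rw [coeff_sum, Finset.sum_eq_single p (fun x _ hxp => by
      rw [coeff_smul, coeff_monomial, if_neg (fun e => hxp (Subtype.ext
        (Finsupp.equivFunOnFinite.symm.injective e))), smul_zero]) (fun h => (h hp).elim),
      coeff_smul, coeff_monomial, if_pos rfl, smul_eq_mul, mul_one] at h
    exact h
  have sp : ⊤ ≤ Submodule.span B (Set.range v) := by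
    rintro x -
    obtain ⟨q, rfl⟩ := Ideal.Quotient.mk_surjective x
    rw [q.as_sum, map_sum]
    refine sum_mem fun p _ => ?_
    by_cases hp : Finsupp.degree p ≤ m
    · have e : tmk ι B m (monomial p (coeff p q)) = coeff p q • v ⟨⇑p, by rwa [← Finsupp.degree_eq_sum]⟩ := by
        change _ = tmk ι B m (coeff p q • monomial (Finsupp.equivFunOnFinite.symm (⇑p)) 1)
        rw [smul_monomial, smul_eq_mul, mul_one, Finsupp.equivFunOnFinite_symm_coe]
      exact e ▸ Submodule.smul_mem _ _ (Submodule.subset_span ⟨_, rfl⟩)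
    · have e : tmk ι B m (monomial p (coeff p q)) = 0 := by
        rw [Ideal.Quotient.eq_zero_iff_mem, mem_pow_idealOfVars_iff']
        intro x hx
        rw [coeff_monomial, if_neg (fun e => by subst e; omega)]
      exact e ▸ zero_mem _
  exact ⟨Module.Basis.mk li sp, fun p => Module.Basis.mk_apply li sp p⟩

theorem exists_basis_P {z : ι → B} {m : ℕ} (h : Function.Bijective (tmap (A := A) m z)) :
    ∃ b : Module.Basis {p : ι → ℕ // ∑ i, p i ≤ m} B (PP16.P m A B),
      ∀ p, b p = ∏ i, (PP16.dn m A B (z i) - algebraMap B (PP16.P m A B) (z i)) ^ (p.1 i) := by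
  obtain ⟨b, hb⟩ := exists_basis_trunc ι B m
  refine ⟨b.map (AlgEquiv.ofBijective (tmap (A := A) m z) h).toLinearEquiv, fun p => ?_⟩
  rw [Module.Basis.map_apply, hb]
  change tmap (A := A) m z (tmk ι B m _) = _
  rw [tmap_tmk, zev, aeval_monomial, map_one, one_mul, Finsupp.prod_fintype _ _ (fun i => pow_zero _), map_prod]
  refine Finset.prod_congr rfl fun i _ => ?_
  rw [map_pow, zeta, map_sub]
  rfl

theorem span_eq_top_of_basis {z : ι → B}
    (hz : ∃ b : Module.Basis ι B (KaehlerDifferential A B), ∀ i, b i = KaehlerDifferential.D A B (z i)) :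
    Submodule.span B (Set.range fun i => KaehlerDifferential.D A B (z i)) = ⊤ := by
  obtain ⟨b, hb⟩ := hz
  rw [← b.span_eq]
  exact congrArg _ (congrArg Set.range (funext fun i => (hb i).symm))

theorem tmap_bijective_of_isDiffSmooth [DecidableEq ι] {z : ι → B} (hB : PP16.IsDiffSmooth A B)
    (hz : ∃ b : Module.Basis ι B (KaehlerDifferential A B), ∀ i, b i = KaehlerDifferential.D A B (z i)) (m : ℕ) :
    Function.Bijective (tmap (A := A) m z) := by
  obtain ⟨b, hb⟩ := hz
  exact ⟨(grFree_of_isDiffSmooth b hb hB).tmap_injective m, tmap_surjective (span_eq_top_of_basis ⟨b, hb⟩) m⟩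

theorem tmap_bijective_of_formallySmooth [Algebra.FormallySmooth A B] [DecidableEq ι] {z : ι → B}
    (hz : ∃ b : Module.Basis ι B (KaehlerDifferential A B), ∀ i, b i = KaehlerDifferential.D A B (z i)) (n : ℕ) :
    Function.Bijective (tmap (A := A) n z) := by
  obtain ⟨Dp, hD, hDz⟩ := exists_dividedPower_of_isTaylor (DiffOp.exists_isTaylor hz)
  have hs := span_eq_top_of_basis hz
  exact ⟨tmap_injective_of_dividedPower hs (fun p => ⟨_, hD p⟩) hDz n, tmap_surjective hs n⟩

end Groth.Agent.PParts
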