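import Groth.Prelude.Def_PP16
import Groth.Agent.DiffOp.Taylor
import Mathlib.RingTheory.MvPolynomial.Homogeneous
import Mathlib.LinearAlgebra.Multilinear.Basic
import Mathlib.Algebra.Module.Projective

/-! Principal parts in coordinates: the comparison with truncated polynomials. -/

universe u

namespace Groth.Agent.PParts

open Diff16 MvPolynomial TensorProduct DiffOp

variable {A B : Type u} [CommRing A] [CommRing B] [Algebra A B]

local notation "II" => KaehlerDifferential.ideal A B

/-! ### Symmetric powers -/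

section Sym

variable {R : Type u} [CommRing R] {κ : Type u} {M : Type u} [AddCommGroup M] [Module R M]
  {N : Type*} [AddCommGroup N] [Module R N]

/-- A symmetric multilinear map factors through the symmetric power. -/
noncomputable def symLift (f : MultilinearMap R (fun _ : κ => M) N)
    (h : ∀ (e : Equiv.Perm κ) (x : κ → M), f (fun i => x (e i)) = f x) : SymmetricPower R κ M →ₗ[R] N where
  toFun := AddCon.lift _ (PiTensorProduct.lift f).toAddMonoidHom (AddCon.addConGen_le.2 (by
    rintro _ _ ⟨e, x⟩
    exact ((PiTensorProduct.lift.tprod x).trans (h e x).symm).trans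
      (PiTensorProduct.lift.tprod (fun i => x (e i))).symm))
  map_add' := map_add _
  map_smul' r x := AddCon.induction_on x fun x => map_smul (PiTensorProduct.lift f) r x

@[simp] theorem symLift_tprod (f : MultilinearMap R (fun _ : κ => M) N)
    (h : ∀ (e : Equiv.Perm κ) (x : κ → M), f (fun i => x (e i)) = f x) (x : κ → M) :
    symLift f h (SymmetricPower.tprod R x) = f x :=
  PiTensorProduct.lift.tprod x

theorem sym_ext {f g : SymmetricPower R κ M →ₗ[R] N}
    (h : ∀ x : κ → M, f (SymmetricPower.tprod R x) = g (SymmetricPower.tprod R x)) : f = g :=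
  LinearMap.ext_on_range (SymmetricPower.span_tprod_eq_top R κ M) h

theorem sym_ext_basis [Fintype κ] {ι : Type*} [Fintype ι] (b : Module.Basis ι R M)
    {f g : SymmetricPower R κ M →ₗ[R] N}
    (h : ∀ r : κ → ι, f (SymmetricPower.tprod R fun j => b (r j)) = g (SymmetricPower.tprod R fun j => b (r j))) :
    f = g := by
  classical
  refine sym_ext fun x => ?_
  have hx : x = fun j => ∑ i, b.repr (x j) i • b i := funext fun j => (b.sum_repr (x j)).symm
  rw [hx, MultilinearMap.map_sum, map_sum, map_sum]
  refine Finset.sum_congr rfl fun r _ => ?_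
  rw [MultilinearMap.map_smul_univ, map_smul, map_smul, h]

end Sym

variable {ι : Type*} [Fintype ι]

/-- Multi-index of a finite family of indices. -/
noncomputable def count {κ : Type*} [Fintype κ] (r : κ → ι) : ι →₀ ℕ := ∑ j, Finsupp.single (r j) 1

theorem degree_count {κ : Type*} [Fintype κ] (r : κ → ι) : Finsupp.degree (count r) = Fintype.card κ := by
  simp [count, map_sum]

theorem exists_perm_of_count_eq {κ : Type*} [Fintype κ] {r r' : κ → ι} (h : count r = count r') :
    ∃ e : Equiv.Perm κ, ∀ j, r (e j) = r' j := by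
  classical
  have key : ∀ (r : κ → ι) (i : ι), count r i = Fintype.card {j // r j = i} := by
    intro r i
    rw [count, Finsupp.finsetSum_apply, Fintype.card_subtype]
    simp [Finsupp.single_apply, Finset.sum_boole]
  have he : ∀ i, Nonempty ({j // r' j = i} ≃ {j // r j = i}) := fun i =>
    ⟨Fintype.equivOfCardEq (by rw [← key, ← key, h])⟩
  refine ⟨Equiv.ofFiberEquiv fun i => (he i).some, fun j => Equiv.ofFiberEquiv_map _ j⟩

theorem exists_count_eq {κ : Type*} [Fintype κ] (p : ι →₀ ℕ) (h : Finsupp.degree p = Fintype.card κ) :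
    ∃ r : κ → ι, count r = p := by
  classical
  obtain ⟨e⟩ : Nonempty (κ ≃ Σ i, Fin (p i)) :=
    ⟨Fintype.equivOfCardEq (by simp [← h, Finsupp.degree_eq_sum])⟩
  refine ⟨fun j => (e j).1, ?_⟩
  ext i
  rw [count, e.sum_comp (fun x => Finsupp.single x.1 1), Finsupp.finsetSum_apply, Fintype.sum_sigma]
  simp [Finsupp.single_apply]

theorem prod_monomial_count {κ : Type*} [Fintype κ] {R : Type*} [CommSemiring R] (r : κ → ι) :
    ∏ j, (X (r j) : MvPolynomial ι R) = monomial (count r) 1 := by
  rw [count, monomial_sum_index, C_1, one_mul]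
  rfl

theorem prod_sub_prod_mem {R : Type*} [CommRing R] {I : Ideal R} {κ : Type*} (s : Finset κ) (a b : κ → R)
    (ha : ∀ j, a j ∈ I) (hb : ∀ j, b j ∈ I) (hab : ∀ j, a j - b j ∈ I ^ 2) :
    ∏ j ∈ s, a j - ∏ j ∈ s, b j ∈ I ^ (s.card + 1) := by
  classical
  have hpow : ∀ (t : Finset κ) (c : κ → R), (∀ j, c j ∈ I) → ∏ j ∈ t, c j ∈ I ^ t.card := by
    intro t c hc
    induction t using Finset.induction_on with
    | empty => simp
    | insert a t ha ih =>
      rw [Finset.prod_insert ha, Finset.card_insert_of_notMem ha, pow_succ']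
      exact Ideal.mul_mem_mul (hc a) ih
  induction s using Finset.induction_on with
  | empty => simp
  | insert c s hc ih =>
    rw [Finset.prod_insert hc, Finset.prod_insert hc, Finset.card_insert_of_notMem hc,
      show a c * ∏ j ∈ s, a j - b c * ∏ j ∈ s, b j =
        (a c - b c) * ∏ j ∈ s, a j + b c * (∏ j ∈ s, a j - ∏ j ∈ s, b j) by ring]
    refine add_mem ?_ ?_
    · have h1 := Ideal.mul_mem_mul (hab c) (hpow s a ha)
      rwa [← pow_add, Nat.add_comm 2] at h1
    · have h1 := Ideal.mul_mem_mul (hb c) ih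
      rwa [← pow_succ'] at h1

variable (A) in
/-- Evaluation of a polynomial at the `1 ⊗ zᵢ - zᵢ ⊗ 1`. -/
noncomputable def zev (z : ι → B) : MvPolynomial ι B →ₐ[B] B ⊗[A] B := aeval fun i => zeta A (z i)

theorem zev_X (z : ι → B) (i : ι) : zev A z (X i) = zeta A (z i) := aeval_X _ i

theorem zev_pow_mem (z : ι → B) {k : ℕ} {q : MvPolynomial ι B} (hq : q ∈ idealOfVars ι B ^ k) :
    zev A z q ∈ II ^ k := by
  have h1 : (idealOfVars ι B).map (zev A z).toRingHom ≤ II := by
    rw [idealOfVars, Ideal.map_span, Ideal.span_le]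
    rintro _ ⟨_, ⟨i, rfl⟩, rfl⟩
    change zev A z (X i) ∈ II
    rw [zev_X]; exact zeta_mem _
  have h2 := Ideal.mem_map_of_mem (zev A z).toRingHom hq
  rw [Ideal.map_pow] at h2
  exact Ideal.pow_right_mono h1 k h2

theorem lmul_zev (z : ι → B) (q : MvPolynomial ι B) :
    Algebra.TensorProduct.lmul' A (zev A z q) = constantCoeff q := by
  induction q using MvPolynomial.induction_on with
  | C c =>
    rw [zev, aeval_C, constantCoeff_C, Algebra.TensorProduct.algebraMap_apply,
      Algebra.TensorProduct.lmul'_apply_tmul]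
    simp
  | add p q hp hq => rw [map_add, map_add, map_add, hp, hq]
  | mul_X p i hp =>
    rw [map_mul, map_mul, map_mul, hp, zev_X, constantCoeff_X, mul_zero]
    simp [zeta]

theorem constantCoeff_eq_zero_of_mem (z : ι → B) {q : MvPolynomial ι B} (h : zev A z q ∈ II) :
    constantCoeff q = 0 := by
  rw [← lmul_zev (A := A) z q]
  exact h

theorem mem_idealOfVars_of_constantCoeff {q : MvPolynomial ι B} (h : constantCoeff q = 0) :
    q ∈ idealOfVars ι B := by
  rw [← pow_one (idealOfVars ι B), mem_pow_idealOfVars_iff']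
  intro x hx
  have : x = 0 := (Finsupp.degree_eq_zero_iff x).1 (by omega)
  subst this
  exact h

variable (A) in
/-- The class of an element of the kernel of multiplication in the differentials. -/
noncomputable def cls : ↥(KaehlerDifferential.ideal A B) →ₗ[B] KaehlerDifferential A B :=
  (KaehlerDifferential.fromIdeal A B).restrictScalars B

theorem cls_zeta (g : B) : cls A ⟨zeta A g, zeta_mem g⟩ = KaehlerDifferential.D A B g := rfl

theorem cls_eq_iff {x y : ↥(KaehlerDifferential.ideal A B)} :
    cls A x = cls A y ↔ (x : B ⊗[A] B) - y ∈ II ^ 2 :=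
  (II).toCotangent_eq

theorem cls_surjective : Function.Surjective (cls A (B := B)) := (II).toCotangent_surjective

theorem cls_eq_zero_iff {x : ↥(KaehlerDifferential.ideal A B)} :
    cls A x = 0 ↔ (x : B ⊗[A] B) ∈ II ^ 2 :=
  (II).toCotangent_eq_zero x

/-- The truncated comparison map. -/
noncomputable def tmap (n : ℕ) (z : ι → B) : Trunc ι B n →ₐ[B] PP16.P n A B :=
  Ideal.Quotient.liftₐ _ ((Ideal.Quotient.mkₐ B (II ^ (n + 1))).comp (zev A z)) fun q hq => by
    rw [AlgHom.comp_apply, Ideal.Quotient.mkₐ_eq_mk, Ideal.Quotient.eq_zero_iff_mem]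
    exact zev_pow_mem z hq

theorem tmap_tmk (n : ℕ) (z : ι → B) (q : MvPolynomial ι B) :
    tmap (A := A) n z (tmk ι B n q) = Ideal.Quotient.mk _ (zev A z q) := rfl

section Span

variable {z : ι → B} (hz : Submodule.span B (Set.range fun i => KaehlerDifferential.D A B (z i)) = ⊤)
include hz

theorem exists_zev_sub_mem :
    ∀ (k : ℕ) (x : B ⊗[A] B), x ∈ II ^ k → ∃ q ∈ idealOfVars ι B ^ k, x - zev A z q ∈ II ^ (k + 1) := by
  have h0 : ∀ x : B ⊗[A] B, x - zev A z (C (Algebra.TensorProduct.lmul' A x)) ∈ II := by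
    intro x
    change Algebra.TensorProduct.lmul' A _ = (0 : B)
    rw [map_sub, lmul_zev, constantCoeff_C, sub_self]
  have h1 : ∀ x : B ⊗[A] B, x ∈ II → ∃ q ∈ idealOfVars ι B, x - zev A z q ∈ II ^ 2 := by
    have key : ∀ ω : KaehlerDifferential A B, ∃ (q : MvPolynomial ι B) (hq : q ∈ idealOfVars ι B)
        (hm : zev A z q ∈ II), cls A ⟨_, hm⟩ = ω := by
      intro ω
      have hω : ω ∈ Submodule.span B (Set.range fun i => KaehlerDifferential.D A B (z i)) := hz ▸ Submodule.mem_top
      induction hω using Submodule.span_induction with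
      | mem ω hω =>
        obtain ⟨i, rfl⟩ := hω
        refine ⟨X i, Ideal.subset_span ⟨i, rfl⟩, by rw [zev_X]; exact zeta_mem _, ?_⟩
        exact (congrArg (cls A) (Subtype.ext (zev_X z i))).trans (cls_zeta (z i))
      | zero =>
        refine ⟨0, zero_mem _, by rw [map_zero]; exact zero_mem _, ?_⟩
        exact (congrArg (cls A) (Subtype.ext (map_zero _))).trans (map_zero (cls A))
      | add ω ω' _ _ h h' =>
        obtain ⟨q, hq, hm, e⟩ := h
        obtain ⟨q', hq', hm', e'⟩ := h'
        refine ⟨q + q', add_mem hq hq', by rw [map_add]; exact add_mem hm hm', ?_⟩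
        exact ((congrArg (cls A) (Subtype.ext (map_add _ _ _))).trans (map_add (cls A) ⟨_, hm⟩ ⟨_, hm'⟩)).trans
          (congrArg₂ (· + ·) e e')
      | smul c ω _ h =>
        obtain ⟨q, hq, hm, e⟩ := h
        refine ⟨C c * q, Ideal.mul_mem_left _ _ hq, by rw [map_mul]; exact Ideal.mul_mem_left _ _ hm, ?_⟩
        refine ((congrArg (cls A) (Subtype.ext ?_)).trans (map_smul (cls A) c ⟨_, hm⟩)).trans (congrArg (c • ·) e)
        change zev A z (C c * q) = c • zev A z q
        rw [← smul_eq_C_mul, map_smul]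
    intro x hx
    obtain ⟨q, hq, hm, e⟩ := key (cls A ⟨x, hx⟩)
    exact ⟨q, hq, cls_eq_iff.1 e.symm⟩
  intro k
  induction k with
  | zero => exact fun x _ => ⟨C (Algebra.TensorProduct.lmul' A x),
      by rw [pow_zero, Ideal.one_eq_top]; trivial, by rw [zero_add, pow_one]; exact h0 x⟩
  | succ k ih =>
    intro x hx
    rw [pow_succ'] at hx
    induction hx using Submodule.mul_induction_on' with
    | mem_mul_mem r hr s hs =>
      obtain ⟨q, hq, hq'⟩ := h1 r hr
      obtain ⟨p, hp, hp'⟩ := ih s hs
      refine ⟨q * p, by rw [pow_succ']; exact Ideal.mul_mem_mul hq hp, ?_⟩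
      rw [map_mul, show r * s - zev A z q * zev A z p = (r - zev A z q) * s + zev A z q * (s - zev A z p) by ring]
      refine add_mem ?_ ?_
      · have := Ideal.mul_mem_mul hq' hs
        rwa [← pow_add, Nat.add_comm 2 k] at this
      · have := Ideal.mul_mem_mul (pow_one (II) ▸ zev_pow_mem z ((pow_one (idealOfVars ι B)).symm ▸ hq) : zev A z q ∈ II) hp'
        rwa [← pow_succ'] at this
    | add x _ y _ h h' =>
      obtain ⟨q, hq, e⟩ := h
      obtain ⟨q', hq', e'⟩ := h'
      refine ⟨q + q', add_mem hq hq', ?_⟩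
      rw [map_add, show x + y - (zev A z q + zev A z q') = (x - zev A z q) + (y - zev A z q') by ring]
      exact add_mem e e'

theorem tmap_surjective (n : ℕ) : Function.Surjective (tmap (A := A) n z) := by
  have key : ∀ k (x : B ⊗[A] B), ∃ q, x - zev A z q ∈ II ^ k := by
    intro k
    induction k with
    | zero => exact fun x => ⟨0, by simp⟩
    | succ k ih =>
      intro x
      obtain ⟨q, hq⟩ := ih x
      obtain ⟨q', -, hq'⟩ := exists_zev_sub_mem hz k _ hq
      exact ⟨q + q', by rw [map_add, ← sub_sub]; exact hq'⟩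
  intro y
  obtain ⟨x, rfl⟩ := Ideal.Quotient.mk_surjective y
  obtain ⟨q, hq⟩ := key (n + 1) x
  exact ⟨tmk ι B n q, (Ideal.Quotient.eq.2 hq).symm⟩

end Span

/-- The monomials in the `1 ⊗ zᵢ - zᵢ ⊗ 1` of degree `d` are independent modulo degree `> d`. -/
def GrFree (A : Type u) [CommRing A] [Algebra A B] (z : ι → B) : Prop :=
  ∀ (d : ℕ) (q : MvPolynomial ι B), q.IsHomogeneous d →
    zev A z q ∈ KaehlerDifferential.ideal A B ^ (d + 1) → q = 0

theorem GrFree.mem_pow {z : ι → B} (h : GrFree A z) {n : ℕ} {q : MvPolynomial ι B}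
    (hq : zev A z q ∈ II ^ (n + 1)) : q ∈ idealOfVars ι B ^ (n + 1) := by
  classical
  suffices ∀ d ≤ n + 1, q ∈ idealOfVars ι B ^ d from this _ le_rfl
  intro d
  induction d with
  | zero => simp
  | succ d ih =>
    intro hd
    have hqd := (mem_pow_idealOfVars_iff' _ _).1 (ih (by omega))
    have hr : q - homogeneousComponent d q ∈ idealOfVars ι B ^ (d + 1) := by
      rw [mem_pow_idealOfVars_iff']
      intro x hx
      rw [coeff_sub, coeff_homogeneousComponent]
      rcases Nat.lt_succ_iff_lt_or_eq.1 hx with hlt | heq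
      · rw [if_neg hlt.ne, hqd x hlt, sub_zero]
      · rw [if_pos heq, sub_self]
    have h0 : homogeneousComponent d q = 0 := by
      refine h d _ (homogeneousComponent_isHomogeneous d q) ?_
      have h1 := sub_mem (Ideal.pow_le_pow_right hd hq) (zev_pow_mem (A := A) z hr)
      rwa [← map_sub, sub_sub_cancel] at h1
    rwa [h0, sub_zero] at hr

theorem GrFree.tmap_injective {z : ι → B} (h : GrFree A z) (n : ℕ) :
    Function.Injective (tmap (A := A) n z) := by
  rw [injective_iff_map_eq_zero]
  intro x hx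
  obtain ⟨q, rfl⟩ := Ideal.Quotient.mk_surjective x
  exact Ideal.Quotient.eq_zero_iff_mem.2 (h.mem_pow (Ideal.Quotient.eq_zero_iff_mem.1 hx))

theorem grFree_of_tmap_injective {z : ι → B} (h : ∀ n, Function.Injective (tmap (A := A) n z)) :
    GrFree A z := by
  intro d q hq hmem
  have hq' : tmk ι B d q = 0 := h d (by rw [tmap_tmk, map_zero, Ideal.Quotient.eq_zero_iff_mem]; exact hmem)
  rw [Ideal.Quotient.eq_zero_iff_mem, mem_pow_idealOfVars_iff'] at hq'
  ext x
  rw [coeff_zero]
  by_cases hx : Finsupp.degree x = d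
  · exact hq' x (by omega)
  · exact hq.coeff_eq_zero hx

/-! ### Taylor expansions from bijective comparison maps -/

theorem exists_isTaylor_of_bijective [DecidableEq ι] {z : ι → B}
    (h : ∀ n, Function.Bijective (tmap (A := A) n z)) (n : ℕ) :
    ∃ φ : B →ₐ[A] Trunc ι B n, IsTaylor z n φ := by
  let e := AlgEquiv.ofBijective (tmap (A := A) n z) (h n)
  have he : ∀ x, tmap (A := A) n z (e.symm x) = x := fun x => e.apply_symm_apply x
  refine ⟨(e.symm.toAlgHom.restrictScalars A).comp (PP16.dn n A B), fun b => ?_, fun i => ?_⟩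
  · change e.symm (PP16.dn n A B b) - algebraMap B _ b ∈ _
    obtain ⟨q, hq⟩ := Ideal.Quotient.mk_surjective (e.symm (PP16.dn n A B b) - algebraMap B _ b)
    rw [← hq]
    apply Ideal.mem_map_of_mem
    refine mem_idealOfVars_of_constantCoeff (constantCoeff_eq_zero_of_mem (A := A) z ?_)
    have h1 : tmap (A := A) n z (tmk ι B n q) = Ideal.Quotient.mk _ (zeta A b) := by
      rw [show tmk ι B n q = _ from hq, map_sub, he, AlgHom.commutes, zeta, map_sub]
      rfl
    rw [tmap_tmk] at h1
    have h2 := Ideal.pow_le_self (Nat.succ_ne_zero n) (Ideal.Quotient.eq.1 h1)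
    have h3 := add_mem h2 (zeta_mem (A := A) b)
    rwa [sub_add_cancel] at h3
  · change e.symm (PP16.dn n A B (z i)) = _
    refine (h n).1 ?_
    rw [he, tmap_tmk, map_add, zev, aeval_C, aeval_X, zeta, Algebra.TensorProduct.algebraMap_apply]
    change Ideal.Quotient.mk _ ((1 : B) ⊗ₜ[A] z i) = _
    simp

theorem exists_dividedPower_of_isTaylor [DecidableEq ι] {z : ι → B}
    (hT : ∀ m, ∃ φ : B →ₐ[A] Trunc ι B m, IsTaylor z m φ) :
    ∃ Dp : (ι → ℕ) → (B →ₗ[A] B),
      (∀ p, IsDiffOpLE A B B B (∑ i, p i) (Dp p)) ∧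
      (∀ p q : ι → ℕ, Dp p (∏ i, z i ^ q i) =
        ((∏ i, Nat.choose (q i) (p i) : ℕ) : B) * ∏ i, z i ^ (q i - p i)) := by
  choose φ hφ using hT
  refine ⟨fun p => (tcoeff (∑ i, p i) (Finsupp.equivFunOnFinite.symm p) (degree_equivFun p).le).restrictScalars A ∘ₗ
      (φ (∑ i, p i)).toLinearMap, fun p => ord_tcoeff (hφ _) _ _ (degree_equivFun p).le _, fun p q => ?_⟩
  simp only [LinearMap.comp_apply, LinearMap.restrictScalars_apply, AlgHom.toLinearMap_apply, map_prod,
    map_pow, (hφ _).gen]
  rw [← coeff_prod_C_add_X, ← tcoeff_tmk (degree_equivFun p).le]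
  simp

/-! ### Injectivity from divided power operators -/

section Dual

variable [DecidableEq ι] {z : ι → B} {Dp : (ι → ℕ) → (B →ₗ[A] B)}

theorem commutator_dividedPower
    (hz : Submodule.span B (Set.range fun i => KaehlerDifferential.D A B (z i)) = ⊤)
    (hD : ∀ p, ∃ k : ℕ, IsDiffOpLE A B B B k (Dp p))
    (hDz : ∀ p q : ι → ℕ, Dp p (∏ i, z i ^ q i) =
      ((∏ i, Nat.choose (q i) (p i) : ℕ) : B) * ∏ i, z i ^ (q i - p i)) (p : ι → ℕ) (i : ι) :
    commutator A B B B (Dp p) (z i) = if p i = 0 then 0 else Dp (p - Pi.single i 1) := by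
  obtain ⟨k, hk⟩ := hD p
  obtain ⟨k', hk'⟩ := hD (p - Pi.single i 1)
  refine DiffOp.eq_of_monomials hz (m := max k k') ?_ ?_ fun q _ => ?_
  · exact DiffOp.ord_mono (le_max_left _ _) (DiffOp.ord_step hk (z i))
  · split
    · exact DiffOp.ord_zero _
    · exact DiffOp.ord_mono (le_max_right _ _) hk'
  have hmul : ∀ f : ι → ℕ, z i * ∏ j, z j ^ f j = ∏ j, z j ^ Function.update f i (f i + 1) j := by
    intro f
    rw [Fintype.prod_eq_mul_prod_compl i, Fintype.prod_eq_mul_prod_compl i, Function.update_self, pow_succ,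
      ← mul_assoc, mul_comm (z i)]
    exact congrArg _ (Finset.prod_congr rfl fun j hj => by rw [Function.update_of_ne (by simpa using hj)])
  have hC : ∀ f : ι → ℕ, ((∏ j, Nat.choose (f j) (p j) : ℕ) : B) =
      (Nat.choose (f i) (p i) : B) * ((∏ j ∈ ({i}ᶜ : Finset ι), Nat.choose (f j) (p j) : ℕ) : B) := fun f => by
    rw [Fintype.prod_eq_mul_prod_compl i, Nat.cast_mul]
  have hE : ∀ f : ι → ℕ, (∏ j, z j ^ f j) = z i ^ f i * ∏ j ∈ ({i}ᶜ : Finset ι), z j ^ f j := fun f =>
    Fintype.prod_eq_mul_prod_compl i _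
  set K : B := ((∏ j ∈ ({i}ᶜ : Finset ι), Nat.choose (q j) (p j) : ℕ) : B) with hK
  set R : B := ∏ j ∈ ({i}ᶜ : Finset ι), z j ^ (q j - p j) with hR
  have hup : ∀ j ∈ ({i}ᶜ : Finset ι), Function.update q i (q i + 1) j = q j := fun j hj =>
    Function.update_of_ne (by simpa using hj) _ _
  have hps : ∀ j ∈ ({i}ᶜ : Finset ι), (p - Pi.single i 1 : ι → ℕ) j = p j := fun j hj => by
    simp [Pi.single_eq_of_ne (show j ≠ i by simpa using hj)]
  have h1 : Dp p (z i • ∏ j, z j ^ q j) = (Nat.choose (q i + 1) (p i) : B) * K * (z i ^ (q i + 1 - p i) * R) := by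
    rw [smul_eq_mul, hmul, hDz, hC, hE, Function.update_self, hK, hR,
      Finset.prod_congr rfl (fun j hj => by rw [hup j hj]),
      Finset.prod_congr rfl (fun j hj => show z j ^ (Function.update q i (q i + 1) j - p j) = _ by rw [hup j hj])]
  have h2 : Dp p (∏ j, z j ^ q j) = (Nat.choose (q i) (p i) : B) * K * (z i ^ (q i - p i) * R) := by
    rw [hDz, hC, hE, hK, hR]
  rw [DiffOp.commutator_apply, h1, h2, smul_eq_mul]
  split
  · next h0 =>
    rw [h0, Nat.choose_zero_right, Nat.choose_zero_right, LinearMap.zero_apply, Nat.sub_zero, Nat.sub_zero, pow_succ]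
    ring
  · next h0 =>
    have h3 : Dp (p - Pi.single i 1) (∏ j, z j ^ q j) =
        (Nat.choose (q i) (p i - 1) : B) * K * (z i ^ (q i - (p i - 1)) * R) := by
      rw [hDz, Fintype.prod_eq_mul_prod_compl i, hE, Nat.cast_mul, hK, hR,
        Finset.prod_congr rfl (fun j hj => by rw [hps j hj]),
        Finset.prod_congr rfl (fun j hj => show z j ^ (q j - (p - Pi.single i 1 : ι → ℕ) j) = _ by rw [hps j hj])]
      simp
    rw [h3]
    obtain ⟨c, hc⟩ : ∃ c, p i = c + 1 := ⟨p i - 1, by omega⟩
    rw [hc, Nat.choose_succ_succ, Nat.cast_add, Nat.add_sub_cancel, Nat.add_sub_add_right]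
    rcases le_or_gt (c + 1) (q i) with h | h
    · rw [show q i - c = q i - (c + 1) + 1 by omega, pow_succ]
      ring
    · rw [Nat.choose_eq_zero_of_lt h]
      ring

theorem sum_sub_single {p : ι → ℕ} {i : ι} (h : p i ≠ 0) :
    (∑ j, (p - Pi.single i 1 : ι → ℕ) j) + 1 = ∑ j, p j := by
  have h1 : ∑ j, p j = ∑ j, (p - Pi.single i 1 : ι → ℕ) j + ∑ j, (Pi.single i 1 : ι → ℕ) j := by
    rw [← Finset.sum_add_distrib]
    refine Finset.sum_congr rfl fun j _ => ?_
    rcases eq_or_ne j i with rfl | hj
    · simp; omega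
    · simp [hj]
  rw [Finset.sum_pi_single' i (1 : ℕ), if_pos (Finset.mem_univ i)] at h1
  omega

theorem ord_dividedPower
    (hz : Submodule.span B (Set.range fun i => KaehlerDifferential.D A B (z i)) = ⊤)
    (hD : ∀ p, ∃ k : ℕ, IsDiffOpLE A B B B k (Dp p))
    (hDz : ∀ p q : ι → ℕ, Dp p (∏ i, z i ^ q i) =
      ((∏ i, Nat.choose (q i) (p i) : ℕ) : B) * ∏ i, z i ^ (q i - p i)) :
    ∀ p, IsDiffOpLE A B B B (∑ i, p i) (Dp p) := by
  suffices ∀ d p, ∑ i, p i = d → IsDiffOpLE A B B B d (Dp p) from fun p => this _ p rfl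
  intro d
  induction d with
  | zero =>
    intro p hp
    obtain ⟨k, hk⟩ := hD p
    refine DiffOp.ord_zero_of_gen hz hk fun i => ?_
    rw [commutator_dividedPower hz hD hDz, if_pos]
    have := Finset.single_le_sum (fun j _ => Nat.zero_le (p j)) (Finset.mem_univ i)
    omega
  | succ d ih =>
    intro p hp
    obtain ⟨k, hk⟩ := hD p
    refine DiffOp.ord_succ_of_gen hz hk fun i => ?_
    rw [commutator_dividedPower hz hD hDz]
    split
    · exact DiffOp.ord_zero _
    · next h => exact ih _ (by have := sum_sub_single (p := p) h; omega)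

theorem phi_dividedPower_monomial
    (hz : Submodule.span B (Set.range fun i => KaehlerDifferential.D A B (z i)) = ⊤)
    (hD : ∀ p, ∃ k : ℕ, IsDiffOpLE A B B B k (Dp p))
    (hDz : ∀ p q : ι → ℕ, Dp p (∏ i, z i ^ q i) =
      ((∏ i, Nat.choose (q i) (p i) : ℕ) : B) * ∏ i, z i ^ (q i - p i)) :
    ∀ (d : ℕ) (r p : ι → ℕ), ∑ i, r i = d →
      phi (Dp p) (∏ i, zeta A (z i) ^ r i) 1 = if p = r then 1 else 0 := by
  intro d
  induction d with
  | zero =>
    intro r p hr
    have hr0 : r = 0 := funext fun i => by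
      have := Finset.single_le_sum (fun j _ => Nat.zero_le (r j)) (Finset.mem_univ i)
      simp only [Pi.zero_apply]; omega
    subst hr0
    simp only [Pi.zero_apply, pow_zero, Finset.prod_const_one]
    simp only [Algebra.TensorProduct.one_def, phi_tmul, one_smul]
    have := hDz p 0
    simp only [Pi.zero_apply, pow_zero, Finset.prod_const_one, Nat.zero_sub, mul_one] at this
    rw [this]
    split
    · next h => subst h; simp
    · next h =>
      obtain ⟨i, hi⟩ := Function.ne_iff.1 h
      rw [Finset.prod_eq_zero (Finset.mem_univ i) (Nat.choose_eq_zero_of_lt (Nat.pos_of_ne_zero hi)), Nat.cast_zero]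
  | succ d ih =>
    intro r p hr
    obtain ⟨i, hi⟩ : ∃ i, r i ≠ 0 := by
      by_contra h
      push Not at h
      simp [h] at hr
    have hprod : ∏ j, zeta A (z j) ^ r j =
        (∏ j, zeta A (z j) ^ (r - Pi.single i 1 : ι → ℕ) j) * zeta A (z i) := by
      rw [Fintype.prod_eq_mul_prod_compl i, Fintype.prod_eq_mul_prod_compl i, mul_right_comm, ← pow_succ]
      congr 1
      · simp only [Pi.sub_apply, Pi.single_eq_same]
        congr 1
        omega
      · exact Finset.prod_congr rfl fun j hj => by
          simp [Pi.single_eq_of_ne (show j ≠ i by simpa using hj)]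
    rw [hprod, ← phi_phi, ← commutator_eq_phi, commutator_dividedPower hz hD hDz]
    split
    · next h0 =>
      rw [if_neg (fun e => hi (by rw [← e]; exact h0))]
      have : phi (0 : B →ₗ[A] B) (∏ j, zeta A (z j) ^ (r - Pi.single i 1 : ι → ℕ) j) = 0 := by
          generalize (∏ j, zeta A (z j) ^ (r - Pi.single i 1 : ι → ℕ) j) = y
          induction y using TensorProduct.induction_on with
          | zero => simp
          | tmul b c => ext m; simp
          | add y y' h h' => rw [map_add, h, h', add_zero]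
      rw [this, LinearMap.zero_apply]
    · next h0 =>
      rw [ih _ _ (by have := sum_sub_single (p := r) hi; omega)]
      refine if_congr ⟨fun e => ?_, fun e => by rw [e]⟩ rfl rfl
      funext j
      have := congrFun e j
      simp only [Pi.sub_apply] at this
      rcases eq_or_ne j i with rfl | hj
      · simp only [Pi.single_eq_same] at this; omega
      · simpa [Pi.single_eq_of_ne hj] using this

theorem tmap_injective_of_dividedPower
    (hz : Submodule.span B (Set.range fun i => KaehlerDifferential.D A B (z i)) = ⊤)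
    (hD : ∀ p, ∃ k : ℕ, IsDiffOpLE A B B B k (Dp p))
    (hDz : ∀ p q : ι → ℕ, Dp p (∏ i, z i ^ q i) =
      ((∏ i, Nat.choose (q i) (p i) : ℕ) : B) * ∏ i, z i ^ (q i - p i)) (n : ℕ) :
    Function.Injective (tmap (A := A) n z) := by
  rw [injective_iff_map_eq_zero]
  intro x hx
  obtain ⟨q, rfl⟩ := Ideal.Quotient.mk_surjective x
  have hmem : zev A z q ∈ II ^ (n + 1) := Ideal.Quotient.eq_zero_iff_mem.1 hx
  rw [Ideal.Quotient.eq_zero_iff_mem, mem_pow_idealOfVars_iff']
  intro p hp
  have h0 : phi (Dp p) (zev A z q) = 0 :=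
    ord_iff_le_ann.1 (ord_mono (n := ∑ i, p i) (m := n) (by rw [← Finsupp.degree_eq_sum]; omega)
      (ord_dividedPower hz hD hDz p)) hmem
  have key : ∀ q : MvPolynomial ι B, phi (Dp p) (zev A z q) 1 = coeff p q := by
    intro q
    induction q using MvPolynomial.induction_on' with
    | add a b ha hb => rw [map_add, map_add, LinearMap.add_apply, ha, hb, coeff_add]
    | monomial r c =>
      rw [zev, aeval_monomial, Algebra.TensorProduct.algebraMap_apply, coeff_monomial,
        Finsupp.prod_fintype _ _ (fun i => pow_zero _), ← phi_phi, phi_tmul, smul_eq_mul,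
        one_smul, phi_dividedPower_monomial hz hD hDz _ r p rfl]
      by_cases hrp : r = p
      · subst hrp; simp
      · rw [if_neg (fun e => hrp (DFunLike.coe_injective e.symm)), if_neg hrp, mul_zero]
  rw [← key, h0, LinearMap.zero_apply]

end Dual

/-! ### Differential smoothness -/

section Smooth

variable [DecidableEq ι] {z : ι → B}

variable (A) in
/-- The linear forms `ω ↦ Σ (coordinate i) Xᵢ`. -/
noncomputable def lform (bas : Module.Basis ι B (KaehlerDifferential A B)) :
    KaehlerDifferential A B →ₗ[B] MvPolynomial ι B :=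
  bas.constr B fun i => X i

/-- The map from the symmetric power to polynomials. -/
noncomputable def gsym (bas : Module.Basis ι B (KaehlerDifferential A B)) (κ : Type u) [Fintype κ] :
    SymmetricPower B κ (KaehlerDifferential A B) →ₗ[B] MvPolynomial ι B :=
  symLift ((MultilinearMap.mkPiAlgebra B κ (MvPolynomial ι B)).compLinearMap fun _ => lform A bas) fun e x => by
    simp only [MultilinearMap.compLinearMap_apply, MultilinearMap.mkPiAlgebra_apply]
    exact Equiv.prod_comp e fun j => lform A bas (x j)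

theorem gsym_tprod (bas : Module.Basis ι B (KaehlerDifferential A B)) {κ : Type u} [Fintype κ]
    (x : κ → KaehlerDifferential A B) :
    gsym bas κ (SymmetricPower.tprod B x) = ∏ j, lform A bas (x j) := by
  simp [gsym, MultilinearMap.compLinearMap_apply]

theorem gsym_tprod_basis (bas : Module.Basis ι B (KaehlerDifferential A B)) {κ : Type u} [Fintype κ]
    (r : κ → ι) : gsym bas κ (SymmetricPower.tprod B fun j => bas (r j)) = monomial (count r) 1 := by
  rw [gsym_tprod, ← prod_monomial_count]
  exact Finset.prod_congr rfl fun j _ => by rw [lform, Module.Basis.constr_basis]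

/-- A left inverse of `gsym`. -/
noncomputable def hsym (bas : Module.Basis ι B (KaehlerDifferential A B)) (κ : Type u) [Fintype κ] :
    MvPolynomial ι B →ₗ[B] SymmetricPower B κ (KaehlerDifferential A B) :=
  (basisMonomials ι B).constr B fun p => by
    classical
    exact if h : ∃ r : κ → ι, count r = p then SymmetricPower.tprod B (fun j => bas (h.choose j)) else 0

theorem hsym_monomial_count (bas : Module.Basis ι B (KaehlerDifferential A B)) {κ : Type u} [Fintype κ]
    (r : κ → ι) : hsym bas κ (monomial (count r) 1) = SymmetricPower.tprod B fun j => bas (r j) := by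
  classical
  have h : ∃ r' : κ → ι, count r' = count r := ⟨r, rfl⟩
  rw [hsym, show monomial (count r) (1 : B) = basisMonomials ι B (count r) from
    (congrFun (coe_basisMonomials ι B) _).symm, Module.Basis.constr_basis, dif_pos h]
  obtain ⟨e, he⟩ := exists_perm_of_count_eq h.choose_spec
  rw [← SymmetricPower.tprod_equiv e]
  exact congrArg _ (funext fun j => by rw [he j])

theorem hsym_gsym (bas : Module.Basis ι B (KaehlerDifferential A B)) {κ : Type u} [Fintype κ]
    (s : SymmetricPower B κ (KaehlerDifferential A B)) : hsym bas κ (gsym bas κ s) = s :=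
  LinearMap.congr_fun (sym_ext_basis bas (f := hsym bas κ ∘ₗ gsym bas κ) (g := LinearMap.id) fun r => by
    rw [LinearMap.comp_apply, gsym_tprod_basis, hsym_monomial_count, LinearMap.id_apply]) s

theorem gsym_hsym (bas : Module.Basis ι B (KaehlerDifferential A B)) {κ : Type u} [Fintype κ]
    {q : MvPolynomial ι B} (hq : q.IsHomogeneous (Fintype.card κ)) : gsym bas κ (hsym bas κ q) = q := by
  classical
  conv_lhs => rw [q.as_sum]
  conv_rhs => rw [q.as_sum]
  rw [map_sum, map_sum]
  refine Finset.sum_congr rfl fun p hp => ?_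
  have hdeg : Finsupp.degree p = Fintype.card κ := by
    by_contra hne
    exact (mem_support_iff.1 hp) (hq.coeff_eq_zero hne)
  obtain ⟨r, hr⟩ := exists_count_eq p hdeg
  rw [← hr, show monomial (count r) (coeff (count r) q) = coeff (count r) q • monomial (count r) (1 : B) by
    rw [smul_monomial, smul_eq_mul, mul_one], map_smul, map_smul, hsym_monomial_count, gsym_tprod_basis]

theorem zev_gsym_mem (bas : Module.Basis ι B (KaehlerDifferential A B)) {κ : Type u} [Fintype κ]
    (s : SymmetricPower B κ (KaehlerDifferential A B)) :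
    zev A z (gsym bas κ s) ∈ (II ^ Fintype.card κ).restrictScalars B := by
  have h : s ∈ Submodule.span B (Set.range (SymmetricPower.tprod B (ι := κ) (M := KaehlerDifferential A B))) := by
    rw [SymmetricPower.span_tprod_eq_top]; trivial
  induction h using Submodule.span_induction with
  | mem s hs =>
    obtain ⟨x, rfl⟩ := hs
    rw [gsym_tprod, map_prod]
    refine PP16.prod_mem_pow (II) Finset.univ (fun j => zev A z (lform A bas (x j))) fun j _ => ?_
    have : lform A bas (x j) ∈ idealOfVars ι B := by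
      have hr : LinearMap.range (lform A bas) ≤ (idealOfVars ι B).restrictScalars B := by
        rw [lform, Module.Basis.constr_range, Submodule.span_le]
        rintro _ ⟨i, rfl⟩
        exact Ideal.subset_span ⟨i, rfl⟩
      exact hr ⟨_, rfl⟩
    simpa using zev_pow_mem (A := A) z (k := 1) (by rwa [pow_one])
  | zero => simp
  | add s t _ _ hs ht => rw [map_add, map_add]; exact add_mem hs ht
  | smul c s _ hs => rw [map_smul, map_smul]; exact Submodule.smul_mem _ _ hs

/-- The map from the symmetric power to the graded piece. -/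
noncomputable def grSym (z : ι → B) (bas : Module.Basis ι B (KaehlerDifferential A B)) (κ : Type u) [Fintype κ] :
    SymmetricPower B κ (KaehlerDifferential A B) →ₗ[B] PP16.grI A B (Fintype.card κ) :=
  Submodule.mkQ _ ∘ₗ ((zev A z).toLinearMap ∘ₗ gsym bas κ).codRestrict
    ((II ^ Fintype.card κ).restrictScalars B) (zev_gsym_mem bas)

theorem zev_lform_sub_mem (bas : Module.Basis ι B (KaehlerDifferential A B))
    (hbas : ∀ i, bas i = KaehlerDifferential.D A B (z i)) (b : B) :
    zev A z (lform A bas (KaehlerDifferential.D A B b)) ∈ II ∧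
      zev A z (lform A bas (KaehlerDifferential.D A B b)) - zeta A b ∈ II ^ 2 := by
  have key : ∀ ω, ∃ hm : zev A z (lform A bas ω) ∈ II, cls A ⟨_, hm⟩ = ω := by
    intro ω
    have hω : ω ∈ Submodule.span B (Set.range bas) := bas.span_eq ▸ Submodule.mem_top
    induction hω using Submodule.span_induction with
    | mem ω hω =>
      obtain ⟨i, rfl⟩ := hω
      have e : zev A z (lform A bas (bas i)) = zeta A (z i) := by
        rw [lform, Module.Basis.constr_basis, zev_X]
      exact ⟨e ▸ zeta_mem _, ((congrArg (cls A) (Subtype.ext e)).trans (cls_zeta (z i))).trans (hbas i).symm⟩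
    | zero =>
      refine ⟨by rw [map_zero, map_zero]; exact zero_mem _, ?_⟩
      exact (congrArg (cls A) (Subtype.ext (by simp))).trans (map_zero (cls A))
    | add ω ω' _ _ h h' =>
      obtain ⟨hm, e⟩ := h
      obtain ⟨hm', e'⟩ := h'
      refine ⟨by rw [map_add, map_add]; exact add_mem hm hm', ?_⟩
      exact ((congrArg (cls A) (Subtype.ext (by simp))).trans (map_add (cls A) ⟨_, hm⟩ ⟨_, hm'⟩)).trans
        (congrArg₂ (· + ·) e e')
    | smul c ω _ h =>
      obtain ⟨hm, e⟩ := h
      refine ⟨by rw [map_smul, map_smul]; exact Submodule.smul_of_tower_mem _ c hm, ?_⟩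
      exact ((congrArg (cls A) (Subtype.ext (by simp))).trans (map_smul (cls A) c ⟨_, hm⟩)).trans
        (congrArg (c • ·) e)
  obtain ⟨hm, e⟩ := key (KaehlerDifferential.D A B b)
  exact ⟨hm, cls_eq_iff.1 (e.trans (cls_zeta b).symm)⟩

theorem grSym_tprod (bas : Module.Basis ι B (KaehlerDifferential A B))
    (hbas : ∀ i, bas i = KaehlerDifferential.D A B (z i)) {κ : Type u} [Fintype κ] (b : κ → B) :
    grSym z bas κ (SymmetricPower.tprod B fun j => KaehlerDifferential.D A B (b j)) = PP16.zetaProd A B b := by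
  rw [grSym, LinearMap.comp_apply, PP16.zetaProd, Submodule.mkQ_apply, Submodule.Quotient.eq]
  change zev A z (gsym bas κ _) - ∏ j, zeta A (b j) ∈ II ^ (Fintype.card κ + 1)
  rw [gsym_tprod, map_prod]
  exact prod_sub_prod_mem Finset.univ _ _ (fun j => (zev_lform_sub_mem bas hbas (b j)).1)
    (fun j => zeta_mem _) fun j => (zev_lform_sub_mem bas hbas (b j)).2

theorem grFree_of_isDiffSmooth (bas : Module.Basis ι B (KaehlerDifferential A B))
    (hbas : ∀ i, bas i = KaehlerDifferential.D A B (z i)) (h : PP16.IsDiffSmooth A B) : GrFree A z := by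
  intro d q hq hmem
  obtain ⟨φ, hφ, hφb⟩ := h.2 (ULift.{u} (Fin d))
  have hd : Fintype.card (ULift.{u} (Fin d)) = d := by simp
  have hq' : q.IsHomogeneous (Fintype.card (ULift.{u} (Fin d))) := hd.symm ▸ hq
  have heq : φ = grSym z bas _ := sym_ext_basis bas fun r => by
    simp only [hbas]
    rw [hφ, grSym_tprod bas hbas]
  have h0 : φ (hsym bas _ q) = 0 := by
    rw [heq, grSym, LinearMap.comp_apply, Submodule.mkQ_apply, Submodule.Quotient.mk_eq_zero]
    change zev A z (gsym bas _ (hsym bas _ q)) ∈ II ^ (Fintype.card (ULift.{u} (Fin d)) + 1)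
    rw [gsym_hsym bas hq', hd]
    exact hmem
  rw [← gsym_hsym bas hq', hφb.1 (h0.trans (map_zero φ).symm), map_zero]

theorem isDiffSmooth_of_grFree (bas : Module.Basis ι B (KaehlerDifferential A B))
    (hbas : ∀ i, bas i = KaehlerDifferential.D A B (z i)) (h : GrFree A z) : PP16.IsDiffSmooth A B := by
  have hz : Submodule.span B (Set.range fun i => KaehlerDifferential.D A B (z i)) = ⊤ := by
    rw [← bas.span_eq]; exact congrArg _ (congrArg Set.range (funext fun i => (hbas i).symm))
  refine ⟨Module.Projective.of_basis bas, fun κ _ => ⟨grSym z bas κ, grSym_tprod bas hbas, ?_, ?_⟩⟩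
  · rw [injective_iff_map_eq_zero]
    intro s hs
    rw [grSym, LinearMap.comp_apply, Submodule.mkQ_apply, Submodule.Quotient.mk_eq_zero] at hs
    change zev A z (gsym bas κ s) ∈ II ^ (Fintype.card κ + 1) at hs
    have hhom : (gsym bas κ s).IsHomogeneous (Fintype.card κ) := by
      clear hs
      have h : s ∈ Submodule.span B (Set.range (SymmetricPower.tprod B (ι := κ) (M := KaehlerDifferential A B))) := by
        rw [SymmetricPower.span_tprod_eq_top]; trivial
      induction h using Submodule.span_induction with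
      | mem s hs =>
        obtain ⟨x, rfl⟩ := hs
        rw [gsym_tprod, show Fintype.card κ = ∑ _j : κ, 1 by simp]
        refine IsHomogeneous.prod _ _ _ fun j _ => ?_
        have hr : LinearMap.range (lform A bas) ≤ homogeneousSubmodule ι B 1 := by
          rw [lform, Module.Basis.constr_range, Submodule.span_le]
          rintro _ ⟨i, rfl⟩
          exact isHomogeneous_X B i
        exact hr ⟨_, rfl⟩
      | zero => rw [map_zero]; exact isHomogeneous_zero _ _ _
      | add s t _ _ hs ht => rw [map_add]; exact hs.add ht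
      | smul c s _ hs => rw [map_smul]; exact (homogeneousSubmodule ι B _).smul_mem c hs
    rw [← hsym_gsym bas s, h _ _ hhom hs, map_zero]
  · intro y
    obtain ⟨⟨x, hx⟩, rfl⟩ := Submodule.Quotient.mk_surjective _ y
    obtain ⟨q, hq, hqx⟩ := exists_zev_sub_mem hz _ x hx
    refine ⟨hsym bas κ (homogeneousComponent (Fintype.card κ) q), ?_⟩
    rw [grSym, LinearMap.comp_apply, Submodule.mkQ_apply, Submodule.Quotient.eq]
    change zev A z (gsym bas κ _) - x ∈ II ^ (Fintype.card κ + 1)
    rw [gsym_hsym bas (homogeneousComponent_isHomogeneous _ _)]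
    have hr : q - homogeneousComponent (Fintype.card κ) q ∈ idealOfVars ι B ^ (Fintype.card κ + 1) := by
      have hq' := (mem_pow_idealOfVars_iff' _ _).1 hq
      rw [mem_pow_idealOfVars_iff']
      intro p hp
      rw [coeff_sub, coeff_homogeneousComponent]
      rcases Nat.lt_succ_iff_lt_or_eq.1 hp with hlt | heq
      · rw [if_neg hlt.ne, hq' p hlt, sub_zero]
      · rw [if_pos heq, sub_self]
    have h1 := neg_mem (add_mem hqx (zev_pow_mem (A := A) z hr))
    rw [map_sub] at h1
    convert h1 using 1
    abel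

theorem linearIndependent_of_grFree (h : GrFree A z) :
    LinearIndependent B fun i => KaehlerDifferential.D A B (z i) := by
  rw [Fintype.linearIndependent_iff]
  intro g hg i
  have hX : ∀ i, zev A z (C (g i) * X i) = g i • zeta A (z i) := fun i => by
    rw [map_mul, zev_X, zev, aeval_C, Algebra.smul_def]
  have hm : zev A z (∑ i, C (g i) * X i) ∈ II := by
    rw [map_sum]
    exact sum_mem fun i _ => by rw [map_mul, zev_X]; exact Ideal.mul_mem_left _ _ (zeta_mem _)
  have h2 : zev A z (∑ i, C (g i) * X i) ∈ II ^ 2 := by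
    refine (cls_eq_zero_iff (x := ⟨_, hm⟩)).1 (Eq.trans ?_ hg)
    simp only [← cls_zeta, ← map_smul, ← map_sum]
    refine congrArg _ (Subtype.ext ?_)
    change zev A z (∑ i, C (g i) * X i) = _
    rw [map_sum, AddSubmonoidClass.coe_finsetSum]
    exact Finset.sum_congr rfl fun i _ => hX i
  have h3 := h 1 (∑ i, C (g i) * X i)
    (IsHomogeneous.sum _ _ _ fun i _ => isHomogeneous_C_mul_X _ _) h2
  have h4 := congrArg (coeff (Finsupp.single i 1)) h3
  simpa [coeff_sum, coeff_C_mul, coeff_X', Finsupp.single_left_inj] using h4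

end Smooth

end Groth.Agent.PParts
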