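import Groth.Prelude.Def_PP16
import Groth.Agent.DiffOp.Basic
import Mathlib.RingTheory.IsTensorProduct
import Mathlib.RingTheory.Localization.Basic
import Mathlib.RingTheory.Nilpotent.Lemmas

/-! Functoriality of principal parts: surjections, base change, localization. -/

universe u

namespace Groth.Agent.PParts

open DiffOp TensorProduct

theorem sup_pow_le {R : Type*} [CommRing R] (I M : Ideal R) : ∀ m : ℕ, (I ⊔ M) ^ m ≤ I ^ m ⊔ M
  | 0 => by rw [pow_zero, pow_zero]; exact le_sup_left
  | m + 1 => by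
    rw [pow_succ, pow_succ]
    refine (Ideal.mul_le.2 fun r hr s hs => ?_)
    obtain ⟨a, ha, b, hb, rfl⟩ := Submodule.mem_sup.1 (sup_pow_le I M m hr)
    obtain ⟨c, hc, d, hd, rfl⟩ := Submodule.mem_sup.1 hs
    rw [show (a + b) * (c + d) = a * c + (a * d + b * (c + d)) by ring]
    exact Submodule.add_mem_sup (Ideal.mul_mem_mul ha hc) (add_mem (Ideal.mul_mem_left _ _ hd) (Ideal.mul_mem_right _ _ hb))

section Square

variable (n : ℕ) (A B A' B' : Type u) [CommRing A] [CommRing B] [Algebra A B]
  [CommRing A'] [CommRing B'] [Algebra A' B'] [Algebra A A'] [Algebra B B'] [Algebra A B']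
  [IsScalarTower A A' B'] [IsScalarTower A B B']

theorem tensorMap_zeta (b : B) :
    PP16.tensorMap A B A' B' (zeta A b) = zeta A' (algebraMap B B' b) := by
  rw [zeta, zeta, map_sub, PP16.tensorMap_tmul, PP16.tensorMap_tmul, map_one]

theorem ideal_map_tensorMap (h : Function.Surjective (algebraMap B B')) :
    (KaehlerDifferential.ideal A B).map (PP16.tensorMap A B A' B') = KaehlerDifferential.ideal A' B' := by
  refine le_antisymm (PP16.ideal_map_tensorMap_le A B A' B') ?_
  rw [ideal_eq_span, Ideal.span_le]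
  rintro _ ⟨g, rfl⟩
  obtain ⟨b, rfl⟩ := h g
  change zeta A' (algebraMap B B' b) ∈ _
  rw [← tensorMap_zeta A B A' B']
  exact Ideal.mem_map_of_mem _ (zeta_mem b)

theorem map_surjective (h : Function.Surjective (PP16.tensorMap A B A' B')) :
    Function.Surjective (PP16.map n A B A' B') := fun y => by
  obtain ⟨y, rfl⟩ := Ideal.Quotient.mk_surjective y
  obtain ⟨x, rfl⟩ := h y
  exact ⟨Ideal.Quotient.mk _ x, rfl⟩

theorem ker_map (h : Function.Surjective (PP16.tensorMap A B A' B'))
    (hI : (KaehlerDifferential.ideal A B).map (PP16.tensorMap A B A' B') = KaehlerDifferential.ideal A' B') :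
    RingHom.ker (PP16.map n A B A' B') =
      (RingHom.ker (PP16.tensorMap A B A' B')).map (Ideal.Quotient.mk (KaehlerDifferential.ideal A B ^ (n + 1))) := by
  ext p
  obtain ⟨x, rfl⟩ := Ideal.Quotient.mk_surjective p
  constructor
  · intro hx
    rw [RingHom.mem_ker, PP16.map_mk, Ideal.Quotient.eq_zero_iff_mem, ← hI, ← Ideal.map_pow] at hx
    obtain ⟨y, hy, hyx⟩ := (Ideal.mem_map_iff_of_surjective _ h).1 hx
    rw [show Ideal.Quotient.mk (KaehlerDifferential.ideal A B ^ (n + 1)) x =
      Ideal.Quotient.mk _ (x - y) by rw [map_sub, Ideal.Quotient.eq_zero_iff_mem.2 hy, sub_zero]]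
    exact Ideal.mem_map_of_mem _ (by rw [RingHom.mem_ker, map_sub, hyx, sub_self])
  · intro hx
    obtain ⟨y, hy, e⟩ := (Ideal.mem_map_iff_of_surjective _ Ideal.Quotient.mk_surjective).1 hx
    rw [RingHom.mem_ker, ← e, PP16.map_mk, RingHom.mem_ker.1 hy, map_zero]

end Square

section Base

variable (A B C : Type u) [CommRing A] [CommRing B] [CommRing C]
  [Algebra A B] [Algebra B C] [Algebra A C] [IsScalarTower A B C]

theorem tensorMap_base_surjective : Function.Surjective (PP16.tensorMap A C B C) := fun y => by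
  induction y using TensorProduct.induction_on with
  | zero => exact ⟨0, map_zero _⟩
  | tmul c d => exact ⟨c ⊗ₜ d, by rw [PP16.tensorMap_tmul]; rfl⟩
  | add y z hy hz =>
    obtain ⟨a, rfl⟩ := hy
    obtain ⟨b, rfl⟩ := hz
    exact ⟨a + b, map_add _ _ _⟩

theorem ker_tensorMap_base :
    RingHom.ker (PP16.tensorMap A C B C) = Ideal.span (Set.range fun b : B => zeta A (algebraMap B C b)) := by
  set J := Ideal.span (Set.range fun b : B => zeta A (algebraMap B C b)) with hJ
  refine le_antisymm (fun x hx => ?_) (Ideal.span_le.2 ?_)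
  · let ρ : C ⊗[B] C →+ (C ⊗[A] C) ⧸ J := TensorProduct.liftAddHom
      { toFun := fun c =>
          { toFun := fun d => Ideal.Quotient.mk J (c ⊗ₜ[A] d)
            map_zero' := by simp
            map_add' := fun d d' => by rw [tmul_add, map_add] }
        map_zero' := by ext; simp
        map_add' := fun c c' => by ext; simp [add_tmul] }
      (fun b c d => by
        change Ideal.Quotient.mk J ((b • c) ⊗ₜ[A] d) = Ideal.Quotient.mk J (c ⊗ₜ[A] (b • d))
        rw [eq_comm, Ideal.Quotient.eq, show c ⊗ₜ[A] (b • d) - (b • c) ⊗ₜ[A] d =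
          (c ⊗ₜ[A] d) * zeta A (algebraMap B C b) by
          rw [zeta, mul_sub, Algebra.TensorProduct.tmul_mul_tmul, Algebra.TensorProduct.tmul_mul_tmul,
            mul_one, mul_one, Algebra.smul_def, Algebra.smul_def, mul_comm _ d, mul_comm _ c]]
        exact Ideal.mul_mem_left _ _ (Ideal.subset_span ⟨b, rfl⟩))
    have key : ∀ x, ρ (PP16.tensorMap A C B C x) = Ideal.Quotient.mk J x := by
      intro x
      induction x using TensorProduct.induction_on with
      | zero => simp
      | tmul c d => rw [PP16.tensorMap_tmul]; rfl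
      | add x y hx hy => rw [map_add, map_add, hx, hy, map_add]
    exact Ideal.Quotient.eq_zero_iff_mem.1 (by rw [← key, RingHom.mem_ker.1 hx, map_zero])
  · rintro _ ⟨b, rfl⟩
    change PP16.tensorMap A C B C (zeta A _) = 0
    rw [tensorMap_zeta, Algebra.algebraMap_self_apply, zeta_algebraMap]

theorem ker_map_base (n : ℕ) :
    RingHom.ker (PP16.map n A C B C) = (PP16.augIdeal n A B).map (PP16.map n A B A C) := by
  rw [ker_map n A C B C (tensorMap_base_surjective A B C) (ideal_map_tensorMap A C B C fun c => ⟨c, rfl⟩),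
    ker_tensorMap_base, Ideal.map_span, PP16.augIdeal, congrArg (Ideal.map (Ideal.Quotient.mk (KaehlerDifferential.ideal A B ^ (n + 1)))) (ideal_eq_span (A := A) (B := B)), Ideal.map_span, Ideal.map_span,
    ← Set.range_comp, ← Set.range_comp, ← Set.range_comp]
  congr 2
  funext b
  change _ = PP16.map n A B A C (Ideal.Quotient.mk _ (zeta A b))
  rw [PP16.map_mk, tensorMap_zeta]
  rfl

theorem bijective_map_base_of_isLocalization (n : ℕ) (R : Submonoid A) [IsLocalization R B] :
    Function.Bijective (PP16.map n A C B C) := by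
  have h0 : ∀ b : B, zeta A (algebraMap B C b) = 0 := by
    intro b
    obtain ⟨a, r, rfl⟩ := IsLocalization.exists_mk'_eq R b
    have hu : IsUnit (((1 : C) ⊗ₜ[A] algebraMap B C (algebraMap A B (r : A))) : C ⊗[A] C) :=
      ((IsLocalization.map_units B r).map (algebraMap B C)).map
        (Algebra.TensorProduct.includeRight : C →ₐ[A] C ⊗[A] C)
    have h := congrArg (algebraMap B C) (IsLocalization.mk'_spec B a r)
    have h1 := congrArg (zeta A) h
    rw [map_mul, zeta_mul, ← IsScalarTower.algebraMap_apply A B C, zeta_algebraMap, mul_zero, zero_add,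
      ← IsScalarTower.algebraMap_apply A B C, zeta_algebraMap] at h1
    have h2 : ((1 : C) ⊗ₜ[A] algebraMap B C (algebraMap A B (r : A))) =
        (algebraMap B C (algebraMap A B (r : A))) ⊗ₜ[A] (1 : C) := by
      rw [← IsScalarTower.algebraMap_apply A B C, Algebra.algebraMap_eq_smul_one, tmul_smul, smul_tmul']
    rw [← IsScalarTower.algebraMap_apply A B C] at h2 hu
    rw [← h2] at h1
    exact hu.mul_right_eq_zero.1 h1
  refine ⟨?_, map_surjective n A C B C (tensorMap_base_surjective A B C)⟩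
  rw [RingHom.injective_iff_ker_eq_bot, ker_map n A C B C (tensorMap_base_surjective A B C)
    (ideal_map_tensorMap A C B C fun c => ⟨c, rfl⟩), ker_tensorMap_base, Ideal.map_span, ← Set.range_comp]
  refine Ideal.span_eq_bot.2 ?_
  rintro _ ⟨b, rfl⟩
  change Ideal.Quotient.mk _ (zeta A (algebraMap B C b)) = 0
  rw [h0, map_zero]

end Base

section Quot

variable (n : ℕ) (A B : Type u) [CommRing A] [CommRing B] [Algebra A B]

theorem tensorMap_quotient_surjective (K : Ideal B) : Function.Surjective (PP16.tensorMap A B A (B ⧸ K)) := fun y => by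
  induction y using TensorProduct.induction_on with
  | zero => exact ⟨0, map_zero _⟩
  | tmul c d =>
    obtain ⟨b, rfl⟩ := Ideal.Quotient.mk_surjective c
    obtain ⟨b', rfl⟩ := Ideal.Quotient.mk_surjective d
    exact ⟨b ⊗ₜ b', by rw [PP16.tensorMap_tmul]; rfl⟩
  | add y z hy hz =>
    obtain ⟨a, rfl⟩ := hy
    obtain ⟨b, rfl⟩ := hz
    exact ⟨a + b, map_add _ _ _⟩

theorem ker_map_quotient (K : Ideal B) :
    RingHom.ker (PP16.map n A B A (B ⧸ K)) =
      K.map (algebraMap B (PP16.P n A B)) ⊔ K.map (PP16.dn n A B) := by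
  have hT : PP16.tensorMap A B A (B ⧸ K) =
      Algebra.TensorProduct.map (Ideal.Quotient.mkₐ A K) (Ideal.Quotient.mkₐ A K) := by
    refine Algebra.TensorProduct.ext' fun a b => ?_
    rw [PP16.tensorMap_tmul, Algebra.TensorProduct.map_tmul]
    rfl
  rw [ker_map n A B A (B ⧸ K) (tensorMap_quotient_surjective A B K)
      (ideal_map_tensorMap A B A (B ⧸ K) Ideal.Quotient.mk_surjective), hT,
    Algebra.TensorProduct.map_ker _ _ Ideal.Quotient.mk_surjective Ideal.Quotient.mk_surjective,
    Ideal.map_sup, show RingHom.ker (Ideal.Quotient.mkₐ A K) = K from Ideal.mk_ker]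
  congr 1
  · exact Ideal.map_map _ _
  · exact Ideal.map_map _ _

theorem section_surjective_ker (g : B →ₐ[A] A) :
    Function.Surjective ((Ideal.Quotient.mk ((RingHom.ker g).map (algebraMap B (PP16.P n A B)))).comp
        (PP16.dn n A B).toRingHom) ∧
      RingHom.ker ((Ideal.Quotient.mk ((RingHom.ker g).map (algebraMap B (PP16.P n A B)))).comp
        (PP16.dn n A B).toRingHom) = RingHom.ker g ^ (n + 1) := by
  set II := KaehlerDifferential.ideal A B
  set J := (RingHom.ker g).map (algebraMap B (PP16.P n A B)) with hJ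
  set f := (Ideal.Quotient.mk J).comp (PP16.dn n A B).toRingHom with hf
  let θ : B ⊗[A] B →ₐ[A] B := Algebra.TensorProduct.lift ((Algebra.ofId A B).comp g) (AlgHom.id A B)
    fun _ _ => Commute.all _ _
  have hθ : ∀ b c, θ (b ⊗ₜ c) = algebraMap A B (g b) * c := fun b c => by simp [θ]
  have hmem : ∀ b : B, b - algebraMap A B (g b) ∈ RingHom.ker g := fun b => by simp [RingHom.mem_ker]
  have hsect : ∀ x, Ideal.Quotient.mk J (Ideal.Quotient.mk (II ^ (n + 1)) x) = f (θ x) := by
    intro x
    induction x using TensorProduct.induction_on with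
    | zero => simp
    | add x y hx hy => rw [map_add, map_add, hx, hy, map_add, map_add]
    | tmul b c =>
      rw [hθ, hf, RingHom.comp_apply, Ideal.Quotient.eq]
      change Ideal.Quotient.mk (II ^ (n + 1)) (b ⊗ₜ c) -
        Ideal.Quotient.mk (II ^ (n + 1)) ((1 : B) ⊗ₜ (algebraMap A B (g b) * c)) ∈ J
      rw [← map_sub, show b ⊗ₜ[A] c - (1 : B) ⊗ₜ[A] (algebraMap A B (g b) * c) =
        ((b - algebraMap A B (g b)) ⊗ₜ[A] (1 : B)) * ((1 : B) ⊗ₜ[A] c) by
          rw [Algebra.TensorProduct.tmul_mul_tmul, mul_one, one_mul, sub_tmul, ← Algebra.smul_def,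
            tmul_smul, Algebra.algebraMap_eq_smul_one, smul_tmul']]
      rw [map_mul]
      exact Ideal.mul_mem_right _ _ (Ideal.mem_map_of_mem _ (hmem b))
  refine ⟨fun y => ?_, le_antisymm (fun c hc => ?_) ?_⟩
  · obtain ⟨p, rfl⟩ := Ideal.Quotient.mk_surjective y
    obtain ⟨x, rfl⟩ := Ideal.Quotient.mk_surjective p
    exact ⟨θ x, (hsect x).symm⟩
  · -- apply the retraction
    have hθI : II.map θ ≤ RingHom.ker g := by
      rw [show II = _ from ideal_eq_span (A := A) (B := B), Ideal.map_span, Ideal.span_le]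
      rintro _ ⟨_, ⟨b, rfl⟩, rfl⟩
      change θ (zeta A b) ∈ RingHom.ker g
      rw [zeta, map_sub, hθ, hθ, map_one, map_one, one_mul, mul_one]
      exact hmem b
    let K' := RingHom.ker g ^ (n + 1)
    let θ' : PP16.P n A B →+* B ⧸ K' := Ideal.Quotient.lift _ ((Ideal.Quotient.mk K').comp θ.toRingHom) fun x hx => by
      rw [RingHom.comp_apply, Ideal.Quotient.eq_zero_iff_mem]
      have h := Ideal.mem_map_of_mem θ hx
      rw [Ideal.map_pow] at h
      exact Ideal.pow_right_mono hθI _ h
    have hJθ : J ≤ RingHom.ker θ' := by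
      rw [hJ, Ideal.map_le_iff_le_comap]
      intro b hb
      change Ideal.Quotient.mk K' (θ (b ⊗ₜ 1)) = 0
      rw [hθ, RingHom.mem_ker.1 hb, map_zero, zero_mul, map_zero]
    have h1 := hJθ (Ideal.Quotient.eq_zero_iff_mem.1 (RingHom.mem_ker.1 hc))
    change Ideal.Quotient.mk K' (θ ((1 : B) ⊗ₜ c)) = 0 at h1
    rw [hθ, map_one, map_one, one_mul] at h1
    exact Ideal.Quotient.eq_zero_iff_mem.1 h1
  · intro c hc
    let M : Ideal (B ⊗[A] B) :=
      (RingHom.ker g).map (Algebra.TensorProduct.includeLeft : B →ₐ[A] B ⊗[A] B).toRingHom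
    have h1 : (RingHom.ker g).map (Algebra.TensorProduct.includeRight : B →ₐ[A] B ⊗[A] B).toRingHom ≤ II ⊔ M := by
      refine Ideal.map_le_iff_le_comap.2 fun k hk => ?_
      change (1 : B) ⊗ₜ[A] k ∈ II ⊔ M
      rw [show (1 : B) ⊗ₜ[A] k = zeta A k + k ⊗ₜ[A] (1 : B) by rw [zeta, sub_add_cancel]]
      exact Submodule.add_mem_sup (zeta_mem k) (Ideal.mem_map_of_mem _ hk)
    have h2 := sup_pow_le II M
    have h3 : (1 : B) ⊗ₜ[A] c ∈ II ^ (n + 1) ⊔ M := by
      refine h2 _ (Ideal.pow_right_mono h1 _ ?_)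
      rw [← Ideal.map_pow]
      exact Ideal.mem_map_of_mem _ hc
    rw [RingHom.mem_ker, hf, RingHom.comp_apply, Ideal.Quotient.eq_zero_iff_mem]
    have h4 := Ideal.mem_map_of_mem (Ideal.Quotient.mk (II ^ (n + 1))) h3
    rw [Ideal.map_sup, Ideal.map_quotient_self, bot_sup_eq, Ideal.map_map] at h4
    exact h4

end Quot

end Groth.Agent.PParts
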