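import Groth.Agent.DiffOp.Basic
import Groth.Prelude.Def_PP16
import Mathlib.Algebra.MvPolynomial.Eval
import Mathlib.RingTheory.TensorProduct.MvPolynomial
import Mathlib.RingTheory.TensorProduct.Quotient
import Mathlib.LinearAlgebra.SymmetricAlgebra.Basic
import Mathlib.RingTheory.Adjoin.Polynomial.Basic

/-! Principal parts of polynomial and symmetric algebras. -/

universe u

namespace Groth.Agent.PParts

open DiffOp TensorProduct

variable {A B : Type u} [CommRing A] [CommRing B] [Algebra A B]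

theorem map_ideal_equiv {C : Type*} [CommRing C] [Algebra B C] (e : B ⊗[A] B ≃ₐ[B] C) {s : Set B}
    (hs : Algebra.adjoin A s = ⊤) :
    (KaehlerDifferential.ideal A B).map (e : B ⊗[A] B →+* C) =
      Ideal.span ((fun g => e (zeta A g)) '' s) := by
  rw [ideal_eq_span_of_adjoin hs, Ideal.map_span, Set.image_image]
  rfl

section MvPoly

open MvPolynomial

variable (A : Type u) [CommRing A] (σ : Type u)

/-- `B ⊗ B → B[T]`, `1 ⊗ Xᵢ ↦ Xᵢ + Tᵢ`. -/
noncomputable def polyFwd :
    MvPolynomial σ A ⊗[A] MvPolynomial σ A →ₐ[MvPolynomial σ A] MvPolynomial σ (MvPolynomial σ A) :=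
  Algebra.TensorProduct.lift (Algebra.ofId _ _) (aeval fun i => C (X i) + X i) fun _ _ => Commute.all _ _

/-- `B[T] → B ⊗ B`, `Tᵢ ↦ 1 ⊗ Xᵢ - Xᵢ ⊗ 1`. -/
noncomputable def polyBwd :
    MvPolynomial σ (MvPolynomial σ A) →ₐ[MvPolynomial σ A] MvPolynomial σ A ⊗[A] MvPolynomial σ A :=
  aeval fun i => zeta A (X i)

theorem polyFwd_zeta (i : σ) : polyFwd A σ (zeta A (X i)) = X i := by
  simp [polyFwd, zeta, MvPolynomial.algebraMap_eq]

/-- `B ⊗ B ≅ B[T]` for a polynomial algebra `B`. -/
noncomputable def polyEquiv :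
    MvPolynomial σ A ⊗[A] MvPolynomial σ A ≃ₐ[MvPolynomial σ A] MvPolynomial σ (MvPolynomial σ A) :=
  AlgEquiv.ofAlgHom (polyFwd A σ) (polyBwd A σ)
    (MvPolynomial.algHom_ext fun i => by simp [polyBwd, polyFwd_zeta])
    (Algebra.TensorProduct.ext (by ext) (MvPolynomial.algHom_ext fun i => by
      simp [polyBwd, polyFwd, zeta, Algebra.TensorProduct.algebraMap_apply]))

theorem exists_P_mvPolynomial (n : ℕ) :
    ∃ e : PP16.P n A (MvPolynomial σ A) ≃ₐ[MvPolynomial σ A]
      (MvPolynomial σ (MvPolynomial σ A) ⧸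
        Ideal.span (Set.range (MvPolynomial.X : σ → MvPolynomial σ (MvPolynomial σ A))) ^ (n + 1)),
      ∀ i : σ, e (PP16.dn n A (MvPolynomial σ A) (MvPolynomial.X i)) =
        Ideal.Quotient.mk _ (MvPolynomial.C (MvPolynomial.X i : MvPolynomial σ A) +
          (MvPolynomial.X i : MvPolynomial σ (MvPolynomial σ A))) := by
  refine ⟨Ideal.quotientEquivAlg _ _ (polyEquiv A σ) ?_, fun i => ?_⟩
  · rw [Ideal.map_pow, map_ideal_equiv (polyEquiv A σ) (MvPolynomial.adjoin_range_X (R := A) (σ := σ)),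
      ← Set.range_comp]
    congr 3
    exact funext fun i => (polyFwd_zeta A σ i).symm
  · change Ideal.quotientEquivAlg _ _ (polyEquiv A σ) _ (Ideal.Quotient.mk _ ((1 : MvPolynomial σ A) ⊗ₜ[A] X i)) = _
    rw [Ideal.quotientEquivAlg_mk]
    refine congrArg _ ?_
    change polyFwd A σ ((1 : MvPolynomial σ A) ⊗ₜ[A] X i) = _
    simp [polyFwd]

end MvPoly

theorem quotient_trans_apply {R : Type*} [CommRing R] {P T C : Type*} [CommRing P] [Algebra R P] [CommRing T]
    [Algebra R T] [CommRing C] [Algebra P C] (f : C ≃ₐ[P] P ⊗[R] T) (I : Ideal C) (J : Ideal T)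
    (hIJ : J.map (Algebra.TensorProduct.includeRight : T →ₐ[R] P ⊗[R] T) = I.map (f : C →+* P ⊗[R] T))
    {x : C} {a : P} {t : T} (hx : f x = a ⊗ₜ 1 + 1 ⊗ₜ t) :
    (Ideal.quotientEquivAlg I _ f hIJ).trans (Algebra.TensorProduct.tensorQuotientEquiv (R := R) P T P J).symm
      (Ideal.Quotient.mk I x) = a ⊗ₜ 1 + 1 ⊗ₜ Ideal.Quotient.mk J t := by
  rw [AlgEquiv.trans_apply, Ideal.quotientEquivAlg_mk, hx, AlgEquiv.symm_apply_eq, map_add]
  rfl

section SymAlg

variable (A : Type u) [CommRing A] (E : Type u) [AddCommGroup E] [Module A E]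

local notation "S" => SymmetricAlgebra A E

theorem adjoin_range_ι : Algebra.adjoin A (Set.range (SymmetricAlgebra.ι A E)) = ⊤ := by
  refine eq_top_iff.2 ?_
  rintro x -
  induction x using SymmetricAlgebra.induction with
  | algebraMap r => exact Subalgebra.algebraMap_mem _ r
  | ι t => exact Algebra.subset_adjoin ⟨t, rfl⟩
  | mul a b ha hb => exact mul_mem ha hb
  | add a b ha hb => exact add_mem ha hb

theorem ker_lift_zero :
    RingHom.ker (SymmetricAlgebra.lift (0 : E →ₗ[A] A)) = Ideal.span (Set.range (SymmetricAlgebra.ι A E)) := by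
  refine le_antisymm (fun x hx => ?_) (Ideal.span_le.2 ?_)
  · have key : ∀ x : S, x - algebraMap A S (SymmetricAlgebra.lift (0 : E →ₗ[A] A) x) ∈
        Ideal.span (Set.range (SymmetricAlgebra.ι A E)) := by
      intro x
      induction x using SymmetricAlgebra.induction with
      | algebraMap r => simp
      | ι t => simpa using Ideal.subset_span (Set.mem_range_self t)
      | mul a b ha hb =>
        rw [map_mul, map_mul]
        generalize algebraMap A S (SymmetricAlgebra.lift (0 : E →ₗ[A] A) a) = a' at *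
        generalize algebraMap A S (SymmetricAlgebra.lift (0 : E →ₗ[A] A) b) = b' at *
        rw [show a * b - a' * b' = (a - a') * b + a' * (b - b') by ring]
        exact add_mem (Ideal.mul_mem_right _ _ ha) (Ideal.mul_mem_left _ _ hb)
      | add a b ha hb =>
        rw [map_add, map_add, add_sub_add_comm]
        exact add_mem ha hb
    simpa [RingHom.mem_ker.1 hx] using key x
  · rintro _ ⟨t, rfl⟩
    simp

/-- `b ↦ b ⊗ 1`, `1 ⊗ t ↦ c (t ⊗ 1) + 1 ⊗ t`. -/
noncomputable def symShift (c : A) : S ⊗[A] S →ₐ[S] S ⊗[A] S :=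
  Algebra.TensorProduct.lift Algebra.TensorProduct.includeLeft
    (SymmetricAlgebra.lift
      (c • ((Algebra.TensorProduct.includeLeft : S →ₐ[A] S ⊗[A] S).toLinearMap ∘ₗ SymmetricAlgebra.ι A E) +
        (Algebra.TensorProduct.includeRight : S →ₐ[A] S ⊗[A] S).toLinearMap ∘ₗ SymmetricAlgebra.ι A E))
    fun _ _ => Commute.all _ _

theorem symShift_left (c : A) (b : S) : symShift A E c (b ⊗ₜ 1) = b ⊗ₜ 1 := by
  simp [symShift]

theorem symShift_right (c : A) (t : E) : symShift A E c (1 ⊗ₜ SymmetricAlgebra.ι A E t) =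
    c • (SymmetricAlgebra.ι A E t ⊗ₜ 1) + 1 ⊗ₜ SymmetricAlgebra.ι A E t := by
  simp [symShift, ← Algebra.TensorProduct.one_def]

theorem symShift_comp {c c' : A} (h : c + c' = 0) : (symShift A E c).comp (symShift A E c') = AlgHom.id S _ := by
  refine Algebra.TensorProduct.ext (AlgHom.ext fun b => ?_) (SymmetricAlgebra.algHom_ext (LinearMap.ext fun t => ?_))
  · simp [symShift_left]
  · change symShift A E c (symShift A E c' (1 ⊗ₜ SymmetricAlgebra.ι A E t)) = 1 ⊗ₜ SymmetricAlgebra.ι A E t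
    rw [symShift_right, map_add, TensorProduct.smul_tmul', symShift_left, ← TensorProduct.smul_tmul', symShift_right, ← add_assoc, ← add_smul,
      add_comm c', h, zero_smul, zero_add]

/-- The shift automorphism of `S ⊗ S`. -/
noncomputable def symEquiv : S ⊗[A] S ≃ₐ[S] S ⊗[A] S :=
  AlgEquiv.ofAlgHom (symShift A E 1) (symShift A E (-1)) (symShift_comp A E (by simp))
    (symShift_comp A E (by simp))

theorem exists_P_symmetricAlgebra (n : ℕ) :
    ∃ e : PP16.P n A S ≃ₐ[S]
      (S ⊗[A] (S ⧸ RingHom.ker (SymmetricAlgebra.lift (0 : E →ₗ[A] A)) ^ (n + 1))),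
      ∀ t : E, e (PP16.dn n A S (SymmetricAlgebra.ι A E t)) =
        SymmetricAlgebra.ι A E t ⊗ₜ 1 + 1 ⊗ₜ Ideal.Quotient.mk _ (SymmetricAlgebra.ι A E t) := by
  have hIJ : (RingHom.ker (SymmetricAlgebra.lift (0 : E →ₗ[A] A)) ^ (n + 1)).map
      (Algebra.TensorProduct.includeRight : S →ₐ[A] S ⊗[A] S) =
      (KaehlerDifferential.ideal A S ^ (n + 1)).map (symEquiv A E : S ⊗[A] S →+* S ⊗[A] S) := by
    rw [Ideal.map_pow, Ideal.map_pow, map_ideal_equiv (symEquiv A E) (adjoin_range_ι A E), ker_lift_zero,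
      Ideal.map_span, ← Set.range_comp, ← Set.range_comp]
    congr 3
    refine funext fun t => ?_
    change (1 : S) ⊗ₜ[A] SymmetricAlgebra.ι A E t = symShift A E 1 (zeta A _)
    simp [zeta, symShift_right, symShift_left]
  refine ⟨(Ideal.quotientEquivAlg _ _ (symEquiv A E) hIJ).trans
    (Algebra.TensorProduct.tensorQuotientEquiv (R := A) S S S _).symm, fun t => ?_⟩
  exact quotient_trans_apply (symEquiv A E) _ _ hIJ ((symShift_right A E 1 t).trans (by rw [one_smul]))

end SymAlg

end Groth.Agent.PParts
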