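import Groth.Agent.PParts.Coord
import Mathlib.RingTheory.Smooth.Basic

/-! Differential smoothness from a split presentation of the module of differentials. -/

universe u

namespace Groth.Agent.PParts

open Diff16 MvPolynomial TensorProduct DiffOp

variable {A B : Type u} [CommRing A] [CommRing B] [Algebra A B] {σ : Type u}

local notation "II" => KaehlerDifferential.ideal A B
local notation "Ω" => KaehlerDifferential A B

/-- Multi-index of a finite family. -/
noncomputable def mset {κ : Type*} [Fintype κ] (f : κ → σ) : σ →₀ ℕ := ∑ j, Finsupp.single (f j) 1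

theorem exists_perm_of_mset_eq {κ : Type*} [Fintype κ] {r r' : κ → σ} (h : mset r = mset r') :
    ∃ e : Equiv.Perm κ, ∀ j, r (e j) = r' j := by
  classical
  have key : ∀ (r : κ → σ) (i : σ), mset r i = Fintype.card {j // r j = i} := by
    intro r i
    rw [mset, Finsupp.finsetSum_apply, Fintype.card_subtype]
    simp [Finsupp.single_apply, Finset.sum_boole]
  have he : ∀ i, Nonempty ({j // r' j = i} ≃ {j // r j = i}) := fun i =>
    ⟨Fintype.equivOfCardEq (by rw [← key, ← key, h])⟩
  exact ⟨Equiv.ofFiberEquiv fun i => (he i).some, fun j => Equiv.ofFiberEquiv_map _ j⟩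

theorem prod_monomial_mset {κ : Type*} [Fintype κ] (r : κ → σ) :
    ∏ j, (X (r j) : MvPolynomial σ B) = monomial (mset r) 1 := by
  rw [mset, monomial_sum_index, C_1, one_mul]
  rfl

/-- Two linear maps on a symmetric power of differentials agree as soon as they agree on products of exact forms. -/
theorem sym_ext_D {κ : Type u} [Fintype κ] {N : Type*} [AddCommGroup N] [Module B N]
    {f g : SymmetricPower B κ Ω →ₗ[B] N}
    (h : ∀ b : κ → B, f (SymmetricPower.tprod B fun j => KaehlerDifferential.D A B (b j)) =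
      g (SymmetricPower.tprod B fun j => KaehlerDifferential.D A B (b j))) : f = g := by
  let π : (B →₀ B) →ₗ[B] Ω := Finsupp.linearCombination B (KaehlerDifferential.D A B)
  have hπ : Function.Surjective π := by
    rw [← LinearMap.range_eq_top, Finsupp.range_linearCombination, KaehlerDifferential.span_range_derivation]
  have e : (f.compMultilinearMap (SymmetricPower.tprod B)).compLinearMap (fun _ : κ => π) =
      (g.compMultilinearMap (SymmetricPower.tprod B)).compLinearMap (fun _ : κ => π) := by
    refine Module.Basis.ext_multilinear (fun _ => Finsupp.basisSingleOne) fun v => ?_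
    simpa [π] using h v
  refine sym_ext fun x => ?_
  choose y hy using fun j => hπ (x j)
  have := congrArg (fun m : MultilinearMap B (fun _ : κ => (B →₀ B)) N => m y) e
  simpa [hy] using this

variable (s : KaehlerDifferential A B →ₗ[B] (σ →₀ B)) (r : (σ →₀ B) →ₗ[B] KaehlerDifferential A B)

/-- The linear forms attached to differentials. -/
noncomputable def lin : Ω →ₗ[B] MvPolynomial σ B :=
  Finsupp.linearCombination B (fun i => X i) ∘ₗ s

theorem isHomogeneous_lin (ω : Ω) : (lin s ω).IsHomogeneous 1 := by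
  rw [lin, LinearMap.comp_apply, Finsupp.linearCombination_apply, Finsupp.sum]
  exact IsHomogeneous.sum _ _ _ fun i _ => by rw [smul_eq_C_mul]; exact isHomogeneous_C_mul_X _ _

theorem lin_mem (ω : Ω) : lin s ω ∈ idealOfVars σ B := by
  rw [← pow_one (idealOfVars σ B), mem_pow_idealOfVars_iff']
  intro x hx
  exact (isHomogeneous_lin s ω).coeff_eq_zero (by omega)

/-- The map from the symmetric power to polynomials. -/
noncomputable def gS (κ : Type u) [Fintype κ] : SymmetricPower B κ Ω →ₗ[B] MvPolynomial σ B :=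
  symLift ((MultilinearMap.mkPiAlgebra B κ (MvPolynomial σ B)).compLinearMap fun _ => lin s) fun e x => by
    simp only [MultilinearMap.compLinearMap_apply, MultilinearMap.mkPiAlgebra_apply]
    exact Equiv.prod_comp e fun j => lin s (x j)

theorem gS_tprod {κ : Type u} [Fintype κ] (x : κ → Ω) :
    gS s κ (SymmetricPower.tprod B x) = ∏ j, lin s (x j) := by
  simp [gS, MultilinearMap.compLinearMap_apply]

theorem isHomogeneous_gS {κ : Type u} [Fintype κ] (x : SymmetricPower B κ Ω) :
    (gS s κ x).IsHomogeneous (Fintype.card κ) := by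
  have h : x ∈ Submodule.span B (Set.range (SymmetricPower.tprod B (ι := κ) (M := Ω))) := by
    rw [SymmetricPower.span_tprod_eq_top]; trivial
  induction h using Submodule.span_induction with
  | mem s' hs =>
    obtain ⟨x, rfl⟩ := hs
    rw [gS_tprod, show Fintype.card κ = ∑ _j : κ, 1 by simp]
    exact IsHomogeneous.prod _ _ _ fun j _ => isHomogeneous_lin s _
  | zero => rw [map_zero]; exact isHomogeneous_zero _ _ _
  | add s t _ _ hs ht => rw [map_add]; exact hs.add ht
  | smul c x _ hx => rw [map_smul]; exact (homogeneousSubmodule σ B _).smul_mem c hx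

theorem gS_injective (hrs : ∀ ω, r (s ω) = ω) {κ : Type u} [Fintype κ] : Function.Injective (gS s κ) := by
  classical
  let h : MvPolynomial σ B →ₗ[B] SymmetricPower B κ Ω :=
    (basisMonomials σ B).constr B fun p =>
      if hp : ∃ f : κ → σ, mset f = p then SymmetricPower.tprod B (fun j => r (Finsupp.single (hp.choose j) 1))
      else 0
  have hh : ∀ f : κ → σ, h (monomial (mset f) 1) =
      SymmetricPower.tprod B fun j => r (Finsupp.single (f j) 1) := by
    intro f
    have hp : ∃ f' : κ → σ, mset f' = mset f := ⟨f, rfl⟩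
    simp only [h]
    rw [show monomial (mset f) (1 : B) = basisMonomials σ B (mset f) from
      (congrFun (coe_basisMonomials σ B) _).symm, Module.Basis.constr_basis, dif_pos hp]
    obtain ⟨e, he⟩ := exists_perm_of_mset_eq hp.choose_spec
    rw [← SymmetricPower.tprod_equiv e]
    exact congrArg _ (funext fun j => by rw [he j])
  have key : h.compMultilinearMap ((MultilinearMap.mkPiAlgebra B κ (MvPolynomial σ B)).compLinearMap
      fun _ => Finsupp.linearCombination B (fun i => X i)) =
      (SymmetricPower.tprod B).compLinearMap fun _ : κ => r := by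
    refine Module.Basis.ext_multilinear (fun _ => Finsupp.basisSingleOne) fun v => ?_
    simp only [LinearMap.compMultilinearMap_apply, MultilinearMap.compLinearMap_apply,
      MultilinearMap.mkPiAlgebra_apply, Finsupp.coe_basisSingleOne, Finsupp.linearCombination_single, one_smul]
    rw [prod_monomial_mset, hh]
  have hid : h ∘ₗ gS s κ = LinearMap.id := sym_ext fun x => by
    have := congrArg (fun m : MultilinearMap B (fun _ : κ => (σ →₀ B)) (SymmetricPower B κ Ω) => m fun j => s (x j)) key
    simp only [LinearMap.compMultilinearMap_apply, MultilinearMap.compLinearMap_apply,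
      MultilinearMap.mkPiAlgebra_apply, hrs] at this
    rw [LinearMap.comp_apply, gS_tprod, LinearMap.id_apply]
    exact this
  exact fun x y e => (LinearMap.congr_fun hid x).symm.trans ((congrArg h e).trans (LinearMap.congr_fun hid y))

/-- Representatives in `B ⊗ B`. -/
noncomputable def rep : MvPolynomial σ B →ₐ[B] B ⊗[A] B :=
  aeval fun i => ((cls_surjective (A := A) (r (Finsupp.single i 1))).choose : B ⊗[A] B)

theorem rep_linearCombination (y : σ →₀ B) :
    ∃ hm : rep r (Finsupp.linearCombination B (fun i => X i) y) ∈ II, cls A ⟨_, hm⟩ = r y := by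
  induction y using Finsupp.induction_linear with
  | zero =>
    refine ⟨by rw [map_zero, map_zero]; exact zero_mem _, ?_⟩
    rw [map_zero r]
    exact (congrArg (cls A) (Subtype.ext (by simp))).trans (map_zero (cls A))
  | add f g hf hg =>
    obtain ⟨hm, e⟩ := hf
    obtain ⟨hm', e'⟩ := hg
    refine ⟨by rw [map_add, map_add]; exact add_mem hm hm', ?_⟩
    rw [map_add r]
    exact ((congrArg (cls A) (Subtype.ext (by simp))).trans (map_add (cls A) ⟨_, hm⟩ ⟨_, hm'⟩)).trans
      (congrArg₂ (· + ·) e e')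
  | single i c =>
    have e : rep r (Finsupp.linearCombination B (fun i => X i) (Finsupp.single i c)) =
        c • ((cls_surjective (A := A) (r (Finsupp.single i 1))).choose : B ⊗[A] B) := by
      rw [Finsupp.linearCombination_single, map_smul, rep, aeval_X]
    refine ⟨e ▸ Submodule.smul_of_tower_mem _ c (Subtype.coe_prop _), ?_⟩
    refine ((congrArg (cls A) (Subtype.ext e)).trans
      (map_smul (cls A) c (cls_surjective (A := A) (r (Finsupp.single i 1))).choose)).trans ?_
    rw [(cls_surjective (A := A) (r (Finsupp.single i 1))).choose_spec, ← map_smul, Finsupp.smul_single_one]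

theorem rep_lin_mem (ω : Ω) : rep r (lin s ω) ∈ II := (rep_linearCombination r (s ω)).1

theorem rep_lin_sub_mem (hrs : ∀ ω, r (s ω) = ω) (b : B) :
    rep r (lin s (KaehlerDifferential.D A B b)) - zeta A b ∈ II ^ 2 := by
  obtain ⟨hm, e⟩ := rep_linearCombination r (s (KaehlerDifferential.D A B b))
  exact cls_eq_iff.1 (e.trans ((hrs _).trans (cls_zeta b).symm))

theorem rep_gS_mem {κ : Type u} [Fintype κ] (x : SymmetricPower B κ Ω) :
    rep r (gS s κ x) ∈ (II ^ Fintype.card κ).restrictScalars B := by
  have h : x ∈ Submodule.span B (Set.range (SymmetricPower.tprod B (ι := κ) (M := Ω))) := by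
    rw [SymmetricPower.span_tprod_eq_top]; trivial
  induction h using Submodule.span_induction with
  | mem x hx =>
    obtain ⟨x, rfl⟩ := hx
    rw [gS_tprod, map_prod]
    exact PP16.prod_mem_pow (II) Finset.univ (fun j => rep r (lin s (x j))) fun j _ => rep_lin_mem s r _
  | zero => simp
  | add s t _ _ hs ht => rw [map_add, map_add]; exact add_mem hs ht
  | smul c x _ hx => rw [map_smul, map_smul]; exact Submodule.smul_mem _ _ hx

theorem rep_gS_tprod_sub_mem (hrs : ∀ ω, r (s ω) = ω) {κ : Type u} [Fintype κ] (b : κ → B) :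
    rep r (gS s κ (SymmetricPower.tprod B fun j => KaehlerDifferential.D A B (b j))) - ∏ j, zeta A (b j)
      ∈ II ^ (Fintype.card κ + 1) := by
  rw [gS_tprod, map_prod]
  exact prod_sub_prod_mem Finset.univ _ _ (fun j => rep_lin_mem s r _) (fun j => zeta_mem _)
    fun j => rep_lin_sub_mem s r hrs (b j)

theorem isDiffSmooth_of_split (hrs : ∀ ω, r (s ω) = ω) (hproj : Module.Projective B Ω)
    (hinj : ∀ (κ : Type u) [Fintype κ] (x : SymmetricPower B κ Ω),
      rep r (gS s κ x) ∈ II ^ (Fintype.card κ + 1) → gS s κ x = 0) : PP16.IsDiffSmooth A B := by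
  refine ⟨hproj, fun κ _ => ?_⟩
  let φ : SymmetricPower B κ Ω →ₗ[B] PP16.grI A B (Fintype.card κ) :=
    Submodule.mkQ _ ∘ₗ ((rep r).toLinearMap ∘ₗ gS s κ).codRestrict
      ((II ^ Fintype.card κ).restrictScalars B) (rep_gS_mem s r)
  refine ⟨φ, fun b => ?_, ?_, ?_⟩
  · simp only [φ]
    rw [LinearMap.comp_apply, PP16.zetaProd, Submodule.mkQ_apply, Submodule.Quotient.eq]
    exact rep_gS_tprod_sub_mem s r hrs b
  · rw [injective_iff_map_eq_zero]
    intro x hx
    simp only [φ] at hx
    rw [LinearMap.comp_apply, Submodule.mkQ_apply, Submodule.Quotient.mk_eq_zero] at hx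
    exact gS_injective s r hrs ((hinj κ x hx).trans (map_zero _).symm)
  · let T : Set (B ⊗[A] B) := {y | ∃ x, rep r (gS s κ x) - y ∈ II ^ (Fintype.card κ + 1)}
    have hsmul : ∀ (p : B ⊗[A] B) (y : B ⊗[A] B), y ∈ II ^ Fintype.card κ → y ∈ T → p * y ∈ T := by
      rintro p y hy ⟨x, hx⟩
      refine ⟨Algebra.TensorProduct.lmul' A p • x, ?_⟩
      rw [map_smul, map_smul, Algebra.smul_def,
        show algebraMap B (B ⊗[A] B) (Algebra.TensorProduct.lmul' A p) * rep r (gS s κ x) - p * y =
          algebraMap B (B ⊗[A] B) (Algebra.TensorProduct.lmul' A p) * (rep r (gS s κ x) - y) +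
            (algebraMap B (B ⊗[A] B) (Algebra.TensorProduct.lmul' A p) - p) * y by ring]
      refine add_mem (Ideal.mul_mem_left _ _ hx) ?_
      rw [pow_succ']
      refine Ideal.mul_mem_mul ?_ hy
      change Algebra.TensorProduct.lmul' A _ = (0 : B)
      simp [Algebra.TensorProduct.algebraMap_apply]
    have key : ∀ y ∈ II ^ Fintype.card κ, y ∈ T := by
      intro y hy
      rw [ideal_eq_span, Ideal.span, Submodule.span_pow] at hy
      induction hy using Submodule.span_induction with
      | mem y hy =>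
        obtain ⟨f, rfl⟩ := Set.mem_pow.1 hy
        choose b hb using fun i => (f i).2
        refine ⟨SymmetricPower.tprod B fun j => KaehlerDifferential.D A B (b (Fintype.equivFin κ j)), ?_⟩
        convert rep_gS_tprod_sub_mem s r hrs (fun j => b (Fintype.equivFin κ j)) using 2
        rw [List.prod_ofFn, ← (Fintype.equivFin κ).prod_comp]
        exact Finset.prod_congr rfl fun j _ => (hb _).symm
      | zero => exact ⟨0, by simp⟩
      | add y y' _ _ h h' =>
        obtain ⟨x, hx⟩ := h
        obtain ⟨x', hx'⟩ := h'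
        exact ⟨x + x', by rw [map_add, map_add, add_sub_add_comm]; exact add_mem hx hx'⟩
      | smul p y hy h =>
        exact hsmul p y (by rw [ideal_eq_span, Ideal.span, Submodule.span_pow]; exact hy) h
    intro y
    obtain ⟨⟨y, hy⟩, rfl⟩ := Submodule.Quotient.mk_surjective _ y
    obtain ⟨x, hx⟩ := key y hy
    exact ⟨x, (Submodule.Quotient.eq _).2 hx⟩

/-! ### Formally smooth algebras -/

theorem gS_eq_zero_of_formallySmooth [Algebra.FormallySmooth A B] (hrs : ∀ ω, r (s ω) = ω) (κ : Type u)
    [Fintype κ] (x : SymmetricPower B κ Ω) (hx : rep r (gS s κ x) ∈ II ^ (Fintype.card κ + 1)) :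
    gS s κ x = 0 := by
  classical
  set n := Fintype.card κ with hn
  let q : MvPolynomial σ B →ₐ[B] Trunc σ B (n + 1) := Ideal.Quotient.mkₐ B _
  let mm : Ideal (Trunc σ B (n + 1)) := (idealOfVars σ B).map (tmk σ B (n + 1))
  -- first order
  let t : Ω →ₗ[B] Trunc σ B 1 := (Ideal.Quotient.mkₐ B _).toLinearMap ∘ₗ lin s
  have ht : ∀ ω ω', t ω * t ω' = 0 := fun ω ω' => by
    change tmk σ B 1 (lin s ω) * tmk σ B 1 (lin s ω') = 0
    rw [← map_mul, Ideal.Quotient.eq_zero_iff_mem, sq]
    exact Ideal.mul_mem_mul (lin_mem s ω) (lin_mem s ω')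
  let δ : Derivation A B (Trunc σ B 1) := t.compDer (KaehlerDifferential.D A B)
  let ψ : B →ₐ[A] Trunc σ B 1 := AlgHom.ofLinearMap
    ((IsScalarTower.toAlgHom A B _).toLinearMap + δ.toLinearMap)
    (by simp [δ.map_one_eq_zero])
    (fun b c => by
      have h0 : δ b * δ c = 0 := ht _ _
      simp only [LinearMap.add_apply, AlgHom.toLinearMap_apply, Derivation.coeFn_coe, map_mul, δ.leibniz,
        IsScalarTower.coe_toAlgHom']
      have hsd : ∀ (b : B) (y : Trunc σ B 1), b • y = algebraMap B (Trunc σ B 1) b * y := fun b y => Algebra.smul_def b y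
      rw [hsd b, hsd c]
      linear_combination (norm := ring) -h0)
  have hle : idealOfVars σ B ^ (n + 1 + 1) ≤ idealOfVars σ B ^ (1 + 1) := Ideal.pow_le_pow_right (by omega)
  let g : Trunc σ B (n + 1) →ₐ[A] Trunc σ B 1 := (Ideal.Quotient.factorₐ B hle).restrictScalars A
  have hg : ∀ p, g (tmk σ B (n + 1) p) = tmk σ B 1 p := fun p => rfl
  have hgs : Function.Surjective g := fun y => by
    obtain ⟨p, rfl⟩ := Ideal.Quotient.mk_surjective y
    exact ⟨tmk σ B (n + 1) p, rfl⟩
  have hgk : ∀ y, g y = 0 → y ∈ mm ^ 2 := fun y hy => by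
    obtain ⟨p, rfl⟩ := Ideal.Quotient.mk_surjective y
    rw [← Ideal.map_pow]
    exact Ideal.mem_map_of_mem _ (Ideal.Quotient.eq_zero_iff_mem.1 hy)
  have hnil : IsNilpotent (RingHom.ker (g : Trunc σ B (n + 1) →+* Trunc σ B 1)) := by
    refine ⟨n + 2, le_bot_iff.1 ?_⟩
    refine (Ideal.pow_right_mono (fun y hy => Ideal.pow_le_self two_ne_zero (hgk y hy)) _).trans ?_
    rw [← Ideal.map_pow, Ideal.map_quotient_self]
  let φ := Algebra.FormallySmooth.liftOfSurjective ψ g hgs hnil
  have hφ : ∀ b, g (φ b) = ψ b := fun b => Algebra.FormallySmooth.liftOfSurjective_apply ψ g hgs hnil b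
  let Φ : B ⊗[A] B →ₐ[B] Trunc σ B (n + 1) :=
    Algebra.TensorProduct.lift (Algebra.ofId B _) φ fun _ _ => Commute.all _ _
  have hΦ : ∀ b, Φ (zeta A b) - q (lin s (KaehlerDifferential.D A B b)) ∈ mm ^ 2 := fun b => by
    apply hgk
    rw [map_sub]
    change g (Φ (zeta A b)) - t (KaehlerDifferential.D A B b) = 0
    have : Φ (zeta A b) = φ b - algebraMap B _ b := by simp [Φ, zeta]
    rw [this, map_sub, hφ]
    change (algebraMap B _ b + δ b) - algebraMap B _ b - _ = 0
    simp [δ]
  have hqm : ∀ ω, q (lin s ω) ∈ mm := fun ω => Ideal.mem_map_of_mem _ (lin_mem s ω)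
  have hΦm : ∀ y ∈ II, Φ y ∈ mm := by
    have : II ≤ mm.comap Φ := by
      rw [ideal_eq_span, Ideal.span_le]
      rintro _ ⟨b, rfl⟩
      have := add_mem (Ideal.pow_le_self two_ne_zero (hΦ b)) (hqm (KaehlerDifferential.D A B b))
      rwa [sub_add_cancel] at this
    exact fun y hy => this hy
  have hΦpow : ∀ (k : ℕ) (y), y ∈ II ^ k → Φ y ∈ mm ^ k := fun k y hy => by
    have h1 : (II).map Φ.toRingHom ≤ mm := Ideal.map_le_iff_le_comap.2 fun y hy => hΦm y hy
    have h2 := Ideal.mem_map_of_mem Φ.toRingHom hy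
    rw [Ideal.map_pow] at h2
    exact Ideal.pow_right_mono h1 k h2
  let F : SymmetricPower B κ Ω →ₗ[B] Trunc σ B (n + 1) ⧸ mm ^ (n + 1) :=
    (Ideal.Quotient.mkₐ B (mm ^ (n + 1))).toLinearMap ∘ₗ Φ.toLinearMap ∘ₗ (rep r).toLinearMap ∘ₗ gS s κ
  let G : SymmetricPower B κ Ω →ₗ[B] Trunc σ B (n + 1) ⧸ mm ^ (n + 1) :=
    (Ideal.Quotient.mkₐ B (mm ^ (n + 1))).toLinearMap ∘ₗ q.toLinearMap ∘ₗ gS s κ
  have hFG : F = G := sym_ext_D fun b => by
    simp only [F, G, LinearMap.comp_apply, AlgHom.toLinearMap_apply, Ideal.Quotient.mkₐ_eq_mk]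
    rw [Ideal.Quotient.eq]
    have h1 := hΦpow _ _ (rep_gS_tprod_sub_mem s r hrs b)
    rw [map_sub, map_prod] at h1
    have h2 : ∏ j, Φ (zeta A (b j)) - q (gS s κ (SymmetricPower.tprod B fun j => KaehlerDifferential.D A B (b j)))
        ∈ mm ^ (n + 1) := by
      rw [gS_tprod, map_prod]
      exact prod_sub_prod_mem Finset.univ _ _ (fun j => hΦm _ (zeta_mem _)) (fun j => hqm _) fun j => hΦ (b j)
    have := add_mem h1 h2
    rwa [sub_add_sub_cancel] at this
  have h0 : q (gS s κ x) ∈ mm ^ (n + 1) := by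
    have h1 := LinearMap.congr_fun hFG x
    simp only [F, G, LinearMap.comp_apply, AlgHom.toLinearMap_apply, Ideal.Quotient.mkₐ_eq_mk] at h1
    have h2 := sub_mem (hΦpow _ _ hx) (Ideal.Quotient.eq.1 h1)
    rwa [sub_sub_cancel] at h2
  rw [← Ideal.map_pow] at h0
  have h3 : gS s κ x ∈ idealOfVars σ B ^ (n + 1) :=
    (Ideal.mem_quotient_iff_mem (Ideal.pow_le_pow_right (by omega))).1 h0
  rw [mem_pow_idealOfVars_iff'] at h3
  ext p
  rw [coeff_zero]
  by_cases hp : Finsupp.degree p = n
  · exact h3 p (by omega)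
  · exact (isHomogeneous_gS s x).coeff_eq_zero hp

end Groth.Agent.PParts
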