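import Groth.Agent.PParts.Split
import Groth.Agent.PParts.Change
import Mathlib.RingTheory.Kaehler.TensorProduct
import Mathlib.RingTheory.Finiteness.Descent
import Mathlib.RingTheory.Flat.EquationalCriterion
import Mathlib.RingTheory.Flat.FaithfullyFlat.Algebra

/-! Differential smoothness: base change and faithfully flat descent. -/

universe u

namespace Groth.Agent.PParts

open Diff16 MvPolynomial TensorProduct DiffOp

/-- A split presentation of differentials, with a functional recovering the coordinates of `I^κ/I^(κ+1)`. -/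
def HasSection {A B : Type u} [CommRing A] [CommRing B] [Algebra A B] {σ : Type u}
    (s : KaehlerDifferential A B →ₗ[B] (σ →₀ B)) (κ : Type u) [Fintype κ] (f : Set B) : Prop :=
  ∃ Λ : PP16.P (Fintype.card κ) A B →ₗ[B] MvPolynomial σ B, ∀ b : κ → B, (∀ j, b j ∈ f) →
    Λ (Ideal.Quotient.mk _ (∏ j, zeta A (b j))) =
      gS s κ (SymmetricPower.tprod B fun j => KaehlerDifferential.D A B (b j))

section Criterion

variable {A B : Type u} [CommRing A] [CommRing B] [Algebra A B] {σ : Type u}
  (s : KaehlerDifferential A B →ₗ[B] (σ →₀ B)) (r : (σ →₀ B) →ₗ[B] KaehlerDifferential A B)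

theorem sym_ext_span {κ : Type u} [Fintype κ] {f : Set B}
    (hf : Submodule.span B (KaehlerDifferential.D A B '' f) = ⊤) {N : Type*} [AddCommGroup N] [Module B N]
    {g g' : SymmetricPower B κ (KaehlerDifferential A B) →ₗ[B] N}
    (h : ∀ b : κ → B, (∀ j, b j ∈ f) → g (SymmetricPower.tprod B fun j => KaehlerDifferential.D A B (b j)) =
      g' (SymmetricPower.tprod B fun j => KaehlerDifferential.D A B (b j))) : g = g' := by
  let π : (↥f →₀ B) →ₗ[B] KaehlerDifferential A B :=
    Finsupp.linearCombination B fun x : ↥f => KaehlerDifferential.D A B x.1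
  have hπ : Function.Surjective π := by
    rw [← LinearMap.range_eq_top, Finsupp.range_linearCombination, ← hf, Set.image_eq_range]
  have e : (g.compMultilinearMap (SymmetricPower.tprod B)).compLinearMap (fun _ : κ => π) =
      (g'.compMultilinearMap (SymmetricPower.tprod B)).compLinearMap (fun _ : κ => π) := by
    refine Module.Basis.ext_multilinear (fun _ => Finsupp.basisSingleOne) fun v => ?_
    simpa [π] using h (fun j => (v j).1) fun j => (v j).2
  refine sym_ext fun x => ?_
  choose y hy using fun j => hπ (x j)
  have := congrArg (fun m : MultilinearMap B (fun _ : κ => (↥f →₀ B)) N => m y) e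
  simpa [hy] using this

theorem gS_eq_zero_of_hasSection (hrs : ∀ ω, r (s ω) = ω) {κ : Type u} [Fintype κ] {f : Set B}
    (hf : Submodule.span B (KaehlerDifferential.D A B '' f) = ⊤) (hΛ : HasSection s κ f)
    (x : SymmetricPower B κ (KaehlerDifferential A B))
    (hx : rep r (gS s κ x) ∈ KaehlerDifferential.ideal A B ^ (Fintype.card κ + 1)) : gS s κ x = 0 := by
  obtain ⟨Λ, hΛ⟩ := hΛ
  have key : Λ ∘ₗ (Ideal.Quotient.mkₐ B _).toLinearMap ∘ₗ (rep r).toLinearMap ∘ₗ gS s κ = gS s κ :=
    sym_ext_span hf fun b hb => by
      simp only [LinearMap.comp_apply, AlgHom.toLinearMap_apply, Ideal.Quotient.mkₐ_eq_mk]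
      exact (congrArg Λ (Ideal.Quotient.eq.2 (rep_gS_tprod_sub_mem s r hrs b))).trans (hΛ b hb)
  rw [← LinearMap.congr_fun key x]
  simp only [LinearMap.comp_apply, AlgHom.toLinearMap_apply, Ideal.Quotient.mkₐ_eq_mk]
  rw [Ideal.Quotient.eq_zero_iff_mem.2 hx, map_zero]

theorem span_D_univ : Submodule.span B (KaehlerDifferential.D A B '' Set.univ) = ⊤ := by
  rw [Set.image_univ, KaehlerDifferential.span_range_derivation]

end Criterion

section OfSmooth

variable {A B : Type u} [CommRing A] [CommRing B] [Algebra A B]

theorem projective_symmetricPower [hΩ : Module.Projective B (KaehlerDifferential A B)] (κ : Type u) [Fintype κ] :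
    Module.Projective B (SymmetricPower B κ (KaehlerDifferential A B)) := by
  obtain ⟨s, hs⟩ := hΩ.out
  have hinj := gS_injective (κ := κ) s (Finsupp.linearCombination B id) hs
  classical
  let h : MvPolynomial (KaehlerDifferential A B) B →ₗ[B] SymmetricPower B κ (KaehlerDifferential A B) :=
    (basisMonomials _ B).constr B fun p =>
      if hp : ∃ f : κ → KaehlerDifferential A B, mset f = p then SymmetricPower.tprod B hp.choose else 0
  have hsurj : Function.Surjective h := by
    rw [← LinearMap.range_eq_top, eq_top_iff, ← SymmetricPower.span_tprod_eq_top B κ (KaehlerDifferential A B),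
      Submodule.span_le]
    rintro _ ⟨x, rfl⟩
    have hp : ∃ f : κ → KaehlerDifferential A B, mset f = mset x := ⟨x, rfl⟩
    refine ⟨monomial (mset x) 1, ?_⟩
    simp only [h]
    rw [show monomial (mset x) (1 : B) = basisMonomials _ B (mset x) from
      (congrFun (coe_basisMonomials _ B) _).symm, Module.Basis.constr_basis, dif_pos hp]
    obtain ⟨e, he⟩ := exists_perm_of_mset_eq hp.choose_spec
    rw [← SymmetricPower.tprod_equiv e]
    exact congrArg _ (funext fun j => he j)
  -- a monomorphism into a free module, split by a rescaled retraction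
  obtain ⟨q, hq⟩ : ∃ q : MvPolynomial (KaehlerDifferential A B) B →ₗ[B] SymmetricPower B κ (KaehlerDifferential A B),
      q ∘ₗ gS s κ = LinearMap.id := by
    refine ⟨h, sym_ext fun x => ?_⟩
    rw [LinearMap.comp_apply, gS_tprod, LinearMap.id_apply]
    have key : h.compMultilinearMap ((MultilinearMap.mkPiAlgebra B κ (MvPolynomial (KaehlerDifferential A B) B)).compLinearMap
        fun _ => Finsupp.linearCombination B (fun i => X i)) =
        (SymmetricPower.tprod B).compLinearMap fun _ : κ => Finsupp.linearCombination B id := by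
      refine Module.Basis.ext_multilinear (fun _ => Finsupp.basisSingleOne) fun v => ?_
      simp only [LinearMap.compMultilinearMap_apply, MultilinearMap.compLinearMap_apply,
        MultilinearMap.mkPiAlgebra_apply, Finsupp.coe_basisSingleOne, Finsupp.linearCombination_single, one_smul, id_eq]
      rw [prod_monomial_mset]
      have hp : ∃ f : κ → KaehlerDifferential A B, mset f = mset v := ⟨v, rfl⟩
      simp only [h]
      rw [show monomial (mset v) (1 : B) = basisMonomials _ B (mset v) from
        (congrFun (coe_basisMonomials _ B) _).symm, Module.Basis.constr_basis, dif_pos hp]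
      obtain ⟨e, he⟩ := exists_perm_of_mset_eq hp.choose_spec
      rw [← SymmetricPower.tprod_equiv e]
      exact congrArg _ (funext fun j => he j)
    have h2 := congrArg (fun m : MultilinearMap B (fun _ : κ => (KaehlerDifferential A B →₀ B)) _ =>
      m fun j => s (x j)) key
    simp only [LinearMap.compMultilinearMap_apply, MultilinearMap.compLinearMap_apply,
      MultilinearMap.mkPiAlgebra_apply] at h2
    exact h2.trans (congrArg _ (funext fun j => hs (x j)))
  exact Module.Projective.of_split (gS s κ) q hq

theorem projective_P (h : PP16.IsDiffSmooth A B) (n : ℕ) : Module.Projective B (PP16.P n A B) := by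
  have := h.1
  induction n with
  | zero =>
    let g : B ⊗[A] B →ₐ[B] B :=
      Algebra.TensorProduct.lift (AlgHom.id B B) (AlgHom.id A B) fun _ _ => Commute.all _ _
    have hg : ∀ x, g x = Algebra.TensorProduct.lmul' A x := fun x => by
      induction x using TensorProduct.induction_on with
      | zero => simp
      | tmul b c => simp [g]
      | add x y hx hy => rw [map_add, map_add, hx, hy]
    let g' : PP16.P 0 A B →ₐ[B] B := Ideal.Quotient.liftₐ _ g fun x hx => by
      rw [zero_add, pow_one] at hx
      exact (hg x).trans hx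
    refine Module.Projective.of_split g'.toLinearMap (Algebra.linearMap B _) (LinearMap.ext fun y => ?_)
    obtain ⟨x, rfl⟩ := Ideal.Quotient.mk_surjective y
    change algebraMap B _ (g x) = Ideal.Quotient.mk _ x
    refine Ideal.Quotient.eq.2 ?_
    rw [zero_add, pow_one]
    change Algebra.TensorProduct.lmul' A _ = (0 : B)
    rw [map_sub, hg, Algebra.TensorProduct.algebraMap_apply, Algebra.TensorProduct.lmul'_apply_tmul, mul_one,
      Algebra.algebraMap_self_apply, sub_self]
  | succ n ih =>
    have hle : KaehlerDifferential.ideal A B ^ (n + 1 + 1) ≤ KaehlerDifferential.ideal A B ^ (n + 1) :=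
      Ideal.pow_le_pow_right (Nat.le_succ _)
    let π : PP16.P (n + 1) A B →ₐ[B] PP16.P n A B := Ideal.Quotient.factorₐ B hle
    obtain ⟨φ, -, hφ⟩ := h.2 (ULift.{u} (Fin (n + 1)))
    have := projective_symmetricPower (A := A) (B := B) (ULift.{u} (Fin (n + 1)))
    have hgr : Module.Projective B (PP16.grI A B (n + 1)) := by
      have hcard : Fintype.card (ULift.{u} (Fin (n + 1))) = n + 1 := by simp
      have := Module.Projective.of_equiv (LinearEquiv.ofBijective φ hφ)
      exact hcard ▸ this
    let ι' : PP16.grI A B (n + 1) →ₗ[B] PP16.P (n + 1) A B :=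
      Submodule.liftQ _ ((Ideal.Quotient.mkₐ B _).toLinearMap ∘ₗ Submodule.subtype _) fun x hx =>
        Ideal.Quotient.eq_zero_iff_mem.2 hx
    obtain ⟨sec, hsec⟩ := Module.projective_lifting_property π.toLinearMap (LinearMap.id : PP16.P n A B →ₗ[B] _)
      (fun y => by
        obtain ⟨x, rfl⟩ := Ideal.Quotient.mk_surjective y
        exact ⟨Ideal.Quotient.mk _ x, rfl⟩)
    refine Module.Projective.of_lifting_property fun {M N} _ _ _ _ p q hp => ?_
    obtain ⟨a, ha⟩ := Module.projective_lifting_property p (q ∘ₗ sec) hp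
    obtain ⟨b, hb⟩ := Module.projective_lifting_property p (q ∘ₗ ι') hp
    have hker : ∀ y, ∃ z, ι' z = y - sec (π y) := fun y => by
      have h0 : π (y - sec (π y)) = 0 := by
        rw [map_sub, sub_eq_zero]
        exact (LinearMap.congr_fun hsec (π y)).symm
      obtain ⟨x, hx⟩ := Ideal.Quotient.mk_surjective (y - sec (π y))
      rw [← hx] at h0 ⊢
      exact ⟨Submodule.Quotient.mk ⟨x, Ideal.Quotient.eq_zero_iff_mem.1 h0⟩, rfl⟩
    have hι : Function.Injective ι' := by
      rw [← LinearMap.ker_eq_bot, Submodule.eq_bot_iff]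
      intro z hz
      obtain ⟨⟨x, hx⟩, rfl⟩ := Submodule.Quotient.mk_surjective _ z
      exact (Submodule.Quotient.mk_eq_zero _).2 (Ideal.Quotient.eq_zero_iff_mem.1 hz)
    choose z hz using hker
    let d : PP16.P (n + 1) A B →ₗ[B] PP16.grI A B (n + 1) :=
      { toFun := z
        map_add' := fun x y => hι (by rw [map_add, hz, hz, hz, map_add, map_add]; abel)
        map_smul' := fun c x => hι (by rw [RingHom.id_apply, map_smul, hz, hz, map_smul, map_smul, smul_sub]) }
    refine ⟨b ∘ₗ d + a ∘ₗ π.toLinearMap, LinearMap.ext fun y => ?_⟩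
    simp only [LinearMap.comp_apply, LinearMap.add_apply, map_add, AlgHom.toLinearMap_apply]
    rw [show p (b (d y)) = q (ι' (z y)) from LinearMap.congr_fun hb _,
      show p (a (π y)) = q (sec (π y)) from LinearMap.congr_fun ha _, hz, ← map_add, sub_add_cancel]

theorem hasSection_of_isDiffSmooth (h : PP16.IsDiffSmooth A B) {σ : Type u}
    (s : KaehlerDifferential A B →ₗ[B] (σ →₀ B)) (κ : Type u) [Fintype κ] : HasSection s κ Set.univ := by
  obtain ⟨φ, hφ, hφb⟩ := h.2 κ
  let ι' : PP16.grI A B (Fintype.card κ) →ₗ[B] PP16.P (Fintype.card κ) A B :=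
    Submodule.liftQ _ ((Ideal.Quotient.mkₐ B _).toLinearMap ∘ₗ Submodule.subtype _) fun x hx =>
      Ideal.Quotient.eq_zero_iff_mem.2 hx
  have hι : Function.Injective ι' := by
    rw [← LinearMap.ker_eq_bot, Submodule.eq_bot_iff]
    intro z hz
    obtain ⟨⟨x, hx⟩, rfl⟩ := Submodule.Quotient.mk_surjective _ z
    exact (Submodule.Quotient.mk_eq_zero _).2 (Ideal.Quotient.eq_zero_iff_mem.1 hz)
  obtain ⟨ρ, hρ⟩ : ∃ ρ : PP16.P (Fintype.card κ) A B →ₗ[B] PP16.grI A B (Fintype.card κ), ρ ∘ₗ ι' = LinearMap.id := by
    rcases Nat.eq_zero_or_pos (Fintype.card κ) with h0 | hpos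
    · have hs : Function.Surjective ι' := fun y => by
        obtain ⟨x, rfl⟩ := Ideal.Quotient.mk_surjective y
        exact ⟨Submodule.Quotient.mk ⟨x, by rw [h0, pow_zero, Ideal.one_eq_top]; trivial⟩, rfl⟩
      exact ⟨(LinearEquiv.ofBijective ι' ⟨hι, hs⟩).symm.toLinearMap,
        LinearMap.ext fun x => (LinearEquiv.ofBijective ι' ⟨hι, hs⟩).symm_apply_apply x⟩
    · obtain ⟨m, hm⟩ : ∃ m, Fintype.card κ = m + 1 := ⟨_, (Nat.succ_pred_eq_of_pos hpos).symm⟩
      have := projective_P h m
      have hle : KaehlerDifferential.ideal A B ^ (Fintype.card κ + 1) ≤ KaehlerDifferential.ideal A B ^ (m + 1) :=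
        Ideal.pow_le_pow_right (by omega)
      let π : PP16.P (Fintype.card κ) A B →ₐ[B] PP16.P m A B := Ideal.Quotient.factorₐ B hle
      have hπ : Function.Surjective π.toLinearMap := fun y => by
        obtain ⟨x, rfl⟩ := Ideal.Quotient.mk_surjective y
        exact ⟨Ideal.Quotient.mk _ x, rfl⟩
      obtain ⟨sec, hsec⟩ := Module.projective_lifting_property π.toLinearMap LinearMap.id hπ
      have hker : ∀ y, ∃ z, ι' z = y - sec (π y) := fun y => by
        have h0 : π (y - sec (π y)) = 0 := by
          rw [map_sub, sub_eq_zero]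
          exact (LinearMap.congr_fun hsec (π y)).symm
        obtain ⟨x, hx⟩ := Ideal.Quotient.mk_surjective (y - sec (π y))
        rw [← hx] at h0 ⊢
        exact ⟨Submodule.Quotient.mk ⟨x, by rw [hm]; exact Ideal.Quotient.eq_zero_iff_mem.1 h0⟩, rfl⟩
      choose z hz using hker
      refine ⟨{ toFun := z
                map_add' := fun x y => hι (by rw [map_add, hz, hz, hz, map_add, map_add]; abel)
                map_smul' := fun c x => hι (by rw [RingHom.id_apply, map_smul, hz, hz, map_smul, map_smul, smul_sub]) },
        LinearMap.ext fun x => hι ?_⟩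
      simp only [LinearMap.comp_apply, LinearMap.coe_mk, AddHom.coe_mk, LinearMap.id_apply]
      rw [hz, show π (ι' x) = 0 from ?_, map_zero, sub_zero]
      obtain ⟨⟨y, hy⟩, rfl⟩ := Submodule.Quotient.mk_surjective _ x
      exact Ideal.Quotient.eq_zero_iff_mem.2 (by rw [← hm]; exact hy)
  refine ⟨gS s κ ∘ₗ (LinearEquiv.ofBijective φ hφb).symm.toLinearMap ∘ₗ ρ, fun b _ => ?_⟩
  simp only [LinearMap.comp_apply, LinearEquiv.coe_coe]
  refine congrArg _ ?_
  rw [LinearEquiv.symm_apply_eq, LinearEquiv.ofBijective_apply, hφ b]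
  exact LinearMap.congr_fun hρ (PP16.zetaProd A B b)

end OfSmooth

section BaseChange

variable (A B A' B' : Type u) [CommRing A] [CommRing B] [Algebra A B]
  [CommRing A'] [CommRing B'] [Algebra A' B'] [Algebra A A'] [Algebra B B'] [Algebra A B']
  [IsScalarTower A A' B'] [IsScalarTower A B B'] [Algebra.IsPushout A B A' B'] {σ : Type u}
  (s : KaehlerDifferential A B →ₗ[B] (σ →₀ B)) (r : (σ →₀ B) →ₗ[B] KaehlerDifferential A B)

include A in
theorem span_D_range :
    Submodule.span B' (KaehlerDifferential.D A' B' '' Set.range (algebraMap B B')) = ⊤ := by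
  have : Algebra.IsPushout A A' B B' := Algebra.IsPushout.symm inferInstance
  refine eq_top_iff.2 fun x _ => ?_
  obtain ⟨y, rfl⟩ := (KaehlerDifferential.tensorKaehlerEquiv A A' B B').surjective x
  induction y using TensorProduct.induction_on with
  | zero => simp
  | add y z hy hz => rw [map_add]; exact add_mem (hy trivial) (hz trivial)
  | tmul b ω =>
    have hω : ω ∈ Submodule.span B (Set.range (KaehlerDifferential.D A B)) := by
      rw [KaehlerDifferential.span_range_derivation]; trivial
    induction hω using Submodule.span_induction generalizing b with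
    | mem ω hω =>
      obtain ⟨a, rfl⟩ := hω
      rw [KaehlerDifferential.tensorKaehlerEquiv_tmul_D]
      exact Submodule.smul_mem _ _ (Submodule.subset_span ⟨_, ⟨a, rfl⟩, rfl⟩)
    | zero => simp
    | add x y _ _ hx hy => rw [tmul_add, map_add]; exact add_mem (hx b trivial) (hy b trivial)
    | smul c x _ hx => rw [← smul_tmul]; exact hx (c • b) trivial

/-- The splitting after base change. -/
theorem exists_split (hrs : ∀ ω, r (s ω) = ω) :
    ∃ (s' : KaehlerDifferential A' B' →ₗ[B'] (σ →₀ B')) (r' : (σ →₀ B') →ₗ[B'] KaehlerDifferential A' B'),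
      (∀ ω, r' (s' ω) = ω) ∧ ∀ (κ : Type u) [Fintype κ] (b : κ → B),
        gS s' κ (SymmetricPower.tprod B' fun j => KaehlerDifferential.D A' B' (algebraMap B B' (b j))) =
          MvPolynomial.map (algebraMap B B')
            (gS s κ (SymmetricPower.tprod B fun j => KaehlerDifferential.D A B (b j))) := by
  have : Algebra.IsPushout A A' B B' := Algebra.IsPushout.symm inferInstance
  let e := KaehlerDifferential.tensorKaehlerEquiv A A' B B'
  let m : (σ →₀ B) →ₗ[B] (σ →₀ B') := Finsupp.mapRange.linearMap (Algebra.linearMap B B')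
  let s' : KaehlerDifferential A' B' →ₗ[B'] (σ →₀ B') := (m ∘ₗ s).liftBaseChange B' ∘ₗ e.symm.toLinearMap
  have hs' : ∀ b : B, s' (KaehlerDifferential.D A' B' (algebraMap B B' b)) = m (s (KaehlerDifferential.D A B b)) := by
    intro b
    have : e ((1 : B') ⊗ₜ[B] KaehlerDifferential.D A B b) = KaehlerDifferential.D A' B' (algebraMap B B' b) := by
      rw [KaehlerDifferential.tensorKaehlerEquiv_tmul_D, one_smul]
    rw [← this]
    simp only [s', LinearMap.comp_apply, LinearEquiv.coe_coe, LinearEquiv.symm_apply_apply,
      LinearMap.liftBaseChange_tmul, one_smul]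
  let r' : (σ →₀ B') →ₗ[B'] KaehlerDifferential A' B' :=
    Finsupp.linearCombination B' fun i => KaehlerDifferential.map A A' B B' (r (Finsupp.single i 1))
  have hr' : ∀ y : σ →₀ B, r' (m y) = KaehlerDifferential.map A A' B B' (r y) := by
    intro y
    induction y using Finsupp.induction_linear with
    | zero => simp
    | add f g hf hg => rw [map_add m, map_add r', map_add r, map_add, hf, hg]
    | single i c =>
      simp only [m, r', Finsupp.mapRange.linearMap_apply, Finsupp.mapRange_single, Finsupp.linearCombination_single,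
        Algebra.linearMap_apply, algebraMap_smul]
      rw [← map_smul, ← map_smul, Finsupp.smul_single_one]
  refine ⟨s', r', fun ω => ?_, fun κ _ b => ?_⟩
  · refine LinearMap.congr_fun (f := r' ∘ₗ s') (g := LinearMap.id)
      (LinearMap.ext_on (span_D_range A B A' B') ?_) ω
    rintro _ ⟨_, ⟨b, rfl⟩, rfl⟩
    rw [LinearMap.comp_apply, hs', hr', hrs, LinearMap.id_apply, KaehlerDifferential.map_D]
  · rw [gS_tprod, gS_tprod, map_prod]
    refine Finset.prod_congr rfl fun j _ => ?_
    change Finsupp.linearCombination B' (fun i => X i) (s' (KaehlerDifferential.D A' B' (algebraMap B B' (b j)))) =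
      MvPolynomial.map (algebraMap B B') (Finsupp.linearCombination B (fun i => X i) (s (KaehlerDifferential.D A B (b j))))
    rw [hs']
    generalize s (KaehlerDifferential.D A B (b j)) = y
    induction y using Finsupp.induction_linear with
    | zero => simp
    | add f g hf hg => rw [map_add m, map_add, map_add, map_add, hf, hg]
    | single i c =>
      simp [m, MvPolynomial.smul_eq_C_mul]
      rw [← algebraMap_smul B' c (X i : MvPolynomial σ B'), MvPolynomial.smul_eq_C_mul]

attribute [local instance] PP16.mapAlgebra PP16.isScalarTower_mapAlgebra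

theorem isDiffSmooth_baseChange (h : PP16.IsDiffSmooth A B) : PP16.IsDiffSmooth A' B' := by
  obtain ⟨s, hs⟩ := h.1.out
  obtain ⟨s', r', hrs', hcompat⟩ := exists_split A B A' B' s (Finsupp.linearCombination B id) hs
  have hproj : Module.Projective B' (KaehlerDifferential A' B') :=
    Module.Projective.of_split s' r' (LinearMap.ext hrs')
  refine isDiffSmooth_of_split s' r' hrs' hproj fun κ _ x hx => ?_
  refine gS_eq_zero_of_hasSection s' r' hrs' (span_D_range A B A' B') ?_ x hx
  obtain ⟨Λ, hΛ⟩ := hasSection_of_isDiffSmooth h s κ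
  let n := Fintype.card κ
  have hpo : Algebra.IsPushout B B' (PP16.P n A B) (PP16.P n A' B') := (isPushout_P n A B A' B').symm
  let mp : MvPolynomial (KaehlerDifferential A B) B →ₗ[B] MvPolynomial (KaehlerDifferential A B) B' :=
    (MvPolynomial.mapAlgHom (Algebra.ofId B B')).toLinearMap
  refine ⟨hpo.out.lift (mp ∘ₗ Λ), fun b hb => ?_⟩
  choose c hc using hb
  obtain rfl : b = fun j => algebraMap B B' (c j) := funext fun j => (hc j).symm
  have e : Ideal.Quotient.mk (KaehlerDifferential.ideal A' B' ^ (n + 1)) (∏ j, zeta A' (algebraMap B B' (c j))) =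
      (IsScalarTower.toAlgHom B (PP16.P n A B) (PP16.P n A' B')).toLinearMap
        (Ideal.Quotient.mk _ (∏ j, zeta A (c j))) := by
    change _ = PP16.map n A B A' B' (Ideal.Quotient.mk _ (∏ j, zeta A (c j)))
    rw [PP16.map_mk, map_prod (PP16.tensorMap A B A' B')]
    exact congrArg _ (Finset.prod_congr rfl fun j _ => (tensorMap_zeta A B A' B' (c j)).symm)
  rw [e, hpo.out.lift_eq, LinearMap.comp_apply, hΛ c fun j => Set.mem_univ _, hcompat κ c]
  rfl

theorem isDiffSmooth_of_faithfullyFlat [Module.FaithfullyFlat A A'] (h : PP16.IsDiffSmooth A' B')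
    (hfin : Module.Finite B' (KaehlerDifferential A' B')) :
    PP16.IsDiffSmooth A B ∧ Module.Finite B (KaehlerDifferential A B) := by
  have : Algebra.IsPushout A A' B B' := Algebra.IsPushout.symm inferInstance
  have hff : Module.FaithfullyFlat B B' :=
    Module.FaithfullyFlat.of_linearEquiv _ _ (Algebra.IsPushout.equiv A B A' B').symm.toLinearEquiv
  let e := KaehlerDifferential.tensorKaehlerEquiv A A' B B'
  have := h.1
  have : Module.Finite B' (B' ⊗[B] KaehlerDifferential A B) := Module.Finite.equiv e.symm
  have : Module.Projective B' (B' ⊗[B] KaehlerDifferential A B) := Module.Projective.of_equiv e.symm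
  have hfinB : Module.Finite B (KaehlerDifferential A B) := Module.Finite.of_finite_tensorProduct_of_faithfullyFlat B'
  have : Module.Flat B (KaehlerDifferential A B) := Module.Flat.of_flat_tensorProduct _ _ B'
  have : Module.FinitePresentation B (KaehlerDifferential A B) := by
    obtain ⟨k, f, hf⟩ := Module.Finite.exists_fin' B (KaehlerDifferential A B)
    refine Module.finitePresentation_of_surjective f hf ?_
    rw [← Module.Finite.iff_fg]
    have hsurj : Function.Surjective (f.baseChange B') := LinearMap.lTensor_surjective B' hf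
    have : Module.FinitePresentation B' (B' ⊗[B] KaehlerDifferential A B) := Module.finitePresentation_of_projective _ _
    have hfg : (LinearMap.ker (f.baseChange B')).FG := Module.FinitePresentation.fg_ker _ hsurj
    have hrange : LinearMap.range ((LinearMap.ker f).subtype.baseChange B') = LinearMap.ker (f.baseChange B') := by
      ext y
      exact (lTensor_exact B' (LinearMap.exact_subtype_ker_map f) hf y).symm
    have hinj : Function.Injective ((LinearMap.ker f).subtype.baseChange B') :=
      Module.Flat.lTensor_preserves_injective_linearMap (LinearMap.ker f).subtype (Submodule.injective_subtype _)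
    have : Module.Finite B' (B' ⊗[B] LinearMap.ker f) := by
      have : Module.Finite B' (LinearMap.range ((LinearMap.ker f).subtype.baseChange B')) := by
        rw [hrange]; exact Module.Finite.iff_fg.2 hfg
      exact Module.Finite.equiv (LinearEquiv.ofInjective _ hinj).symm
    exact Module.Finite.of_finite_tensorProduct_of_faithfullyFlat B'
  have hproj : Module.Projective B (KaehlerDifferential A B) := Module.Flat.projective_of_finitePresentation
  refine ⟨?_, hfinB⟩
  obtain ⟨s, hs⟩ := hproj.out
  obtain ⟨s', r', hrs', hcompat⟩ := exists_split A B A' B' s (Finsupp.linearCombination B id) hs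
  refine isDiffSmooth_of_split s (Finsupp.linearCombination B id) hs hproj fun κ _ x hx => ?_
  obtain ⟨Λ, hΛ⟩ := hasSection_of_isDiffSmooth h s' κ
  let n := Fintype.card κ
  let mb : PP16.P n A B →ₗ[B] PP16.P n A' B' :=
    (IsScalarTower.toAlgHom B (PP16.P n A B) (PP16.P n A' B')).toLinearMap
  let K : SymmetricPower B κ (KaehlerDifferential A B) →ₗ[B] MvPolynomial (KaehlerDifferential A B) B' :=
    Λ.restrictScalars B ∘ₗ mb ∘ₗ (Ideal.Quotient.mkₐ B _).toLinearMap ∘ₗ
      (rep (Finsupp.linearCombination B id)).toLinearMap ∘ₗ gS s κ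
  have hK : K = (MvPolynomial.mapAlgHom (Algebra.ofId B B')).toLinearMap ∘ₗ gS s κ := sym_ext_D fun b => by
    simp only [K, LinearMap.comp_apply, LinearMap.restrictScalars_apply, AlgHom.toLinearMap_apply,
      Ideal.Quotient.mkₐ_eq_mk]
    rw [Ideal.Quotient.eq.2 (rep_gS_tprod_sub_mem s (Finsupp.linearCombination B id) hs b)]
    refine Eq.trans (congrArg Λ ?_) ((hΛ (fun j => algebraMap B B' (b j)) fun j => Set.mem_univ _).trans (hcompat κ b))
    change PP16.map n A B A' B' (Ideal.Quotient.mk _ (∏ j, zeta A (b j))) = _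
    rw [PP16.map_mk, map_prod (PP16.tensorMap A B A' B')]
    exact congrArg _ (Finset.prod_congr rfl fun j _ => tensorMap_zeta A B A' B' (b j))
  have h0 := LinearMap.congr_fun hK x
  simp only [K, LinearMap.comp_apply, LinearMap.restrictScalars_apply, AlgHom.toLinearMap_apply,
    Ideal.Quotient.mkₐ_eq_mk] at h0
  rw [show Ideal.Quotient.mk (KaehlerDifferential.ideal A B ^ (n + 1)) (rep (Finsupp.linearCombination B id) (gS s κ x)) = 0
    from Ideal.Quotient.eq_zero_iff_mem.2 hx, map_zero mb, map_zero Λ] at h0
  exact MvPolynomial.map_injective (algebraMap B B') (FaithfulSMul.algebraMap_injective B B')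
    (h0.symm.trans (map_zero _).symm)

end BaseChange

end Groth.Agent.PParts
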