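import Groth.Agent.PParts.Split
import Mathlib.Algebra.MvPolynomial.PDeriv

/-! Differential smoothness in characteristic zero from derivations dual to a presentation of differentials. -/

universe u

namespace Groth.Agent.PParts

open Diff16 MvPolynomial TensorProduct DiffOp

variable {A B : Type u} [CommRing A] [CommRing B] [Algebra A B] {σ : Type u}
variable (s : KaehlerDifferential A B →ₗ[B] (σ →₀ B)) (r : (σ →₀ B) →ₗ[B] KaehlerDifferential A B)

local notation "II" => KaehlerDifferential.ideal A B

/-- The derivation in direction `i`. -/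
noncomputable def der (i : σ) : Derivation A B B :=
  (Finsupp.lapply i ∘ₗ s).compDer (KaehlerDifferential.D A B)

/-- Iterated derivations. -/
noncomputable def derL : List σ → (B →ₗ[A] B)
  | [] => LinearMap.id
  | i :: l => (der s i).toLinearMap ∘ₗ derL l

/-- Iterated partial derivatives. -/
noncomputable def pdL : List σ → (MvPolynomial σ B →ₗ[B] MvPolynomial σ B)
  | [] => LinearMap.id
  | i :: l => pdL l ∘ₗ (pderiv i).toLinearMap

theorem commutator_smul_left (D : B →ₗ[A] B) (a c : B) :
    commutator A B B B (a • D) c = a • commutator A B B B D c := commutator_smul a D c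

theorem pderiv_lin (i : σ) (ω : KaehlerDifferential A B) : pderiv i (lin s ω) = C (s ω i) := by
  classical
  rw [lin, LinearMap.comp_apply, Finsupp.linearCombination_apply, Finsupp.sum, map_sum]
  simp only [Derivation.map_smul, pderiv_X, smul_eq_C_mul]
  rw [Finset.sum_eq_single i (fun j _ h => by simp [Pi.single_eq_of_ne h]) (fun h => by simp [Finsupp.notMem_support_iff.1 h])]
  simp

theorem phi_der_comp {κ : Type*} [DecidableEq κ] (i : σ) (D : B →ₗ[A] B) (t : Finset κ) (b : κ → B) :
    phi ((der s i).toLinearMap ∘ₗ D) (∏ j ∈ t, zeta A (b j)) =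
      (der s i).toLinearMap ∘ₗ phi D (∏ j ∈ t, zeta A (b j)) +
        ∑ j ∈ t, der s i (b j) • phi D (∏ k ∈ t.erase j, zeta A (b k)) := by
  induction t using Finset.induction_on with
  | empty =>
    ext m
    simp [Algebra.TensorProduct.one_def]
  | insert c t hc ih =>
    have h1 : ∀ E : B →ₗ[A] B, commutator A B B B ((der s i).toLinearMap ∘ₗ E) (b c) =
        (der s i).toLinearMap ∘ₗ commutator A B B B E (b c) + der s i (b c) • E := by
      intro E
      ext m
      simp only [DiffOp.commutator_apply, LinearMap.comp_apply, LinearMap.add_apply, LinearMap.smul_apply,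
        Derivation.coeFn_coe, map_sub, smul_eq_mul, Derivation.leibniz]
      ring
    have h2 : ∀ (E : B →ₗ[A] B) (x : B ⊗[A] B), commutator A B B B (phi E x) (b c) = phi E (zeta A (b c) * x) :=
      fun E x => (commutator_eq_phi _ _).trans (phi_phi E x _)
    have h3 : ∀ j ∈ t, (insert c t).erase j = insert c (t.erase j) := fun j hj => by
      rw [Finset.erase_insert_of_ne]
      rintro rfl
      exact hc hj
    rw [Finset.prod_insert hc, ← h2, ih, Finset.sum_insert hc, Finset.erase_insert hc]
    have h4 : ∀ (f : κ → (B →ₗ[A] B)) (u : Finset κ), commutator A B B B (∑ j ∈ u, f j) (b c) =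
        ∑ j ∈ u, commutator A B B B (f j) (b c) := by
      intro f u
      induction u using Finset.induction_on with
      | empty => simp [commutator_zero]
      | insert a u ha ih => rw [Finset.sum_insert ha, Finset.sum_insert ha, commutator_add, ih]
    rw [commutator_add, h1, h4, h2, add_assoc]
    refine congrArg _ (congrArg _ (Finset.sum_congr rfl fun j hj => ?_))
    rw [commutator_smul_left, h2, h3 j hj, Finset.prod_insert (fun h => hc (Finset.mem_of_mem_erase h))]

theorem pderiv_prod {κ : Type*} [DecidableEq κ] (i : σ) (t : Finset κ) (q : κ → MvPolynomial σ B) :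
    pderiv i (∏ j ∈ t, q j) = ∑ j ∈ t, pderiv i (q j) * ∏ k ∈ t.erase j, q k := by
  induction t using Finset.induction_on with
  | empty => simp
  | insert c t hc ih =>
    rw [Finset.prod_insert hc, pderiv_mul, ih, Finset.sum_insert hc, Finset.erase_insert hc, Finset.mul_sum]
    refine congrArg _ (Finset.sum_congr rfl fun j hj => ?_)
    rw [Finset.erase_insert_of_ne (by rintro rfl; exact hc hj),
      Finset.prod_insert (fun h => hc (Finset.mem_of_mem_erase h))]
    ring

theorem exists_coeff_pdL [DecidableEq σ] : ∀ (l : List σ) (p : σ →₀ ℕ),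
    ∃ c : ℕ, c ≠ 0 ∧ ∀ q : MvPolynomial σ B,
      coeff p (pdL l q) = (c : B) * coeff (p + (l.map fun i => Finsupp.single i 1).sum) q
  | [], p => ⟨1, one_ne_zero, fun q => by simp [pdL]⟩
  | i :: l, p => by
    obtain ⟨c, hc, h⟩ := exists_coeff_pdL l p
    refine ⟨c * ((p + ((l.map fun i => Finsupp.single i 1).sum : σ →₀ ℕ)) i + 1), mul_ne_zero hc (Nat.succ_ne_zero _), fun q => ?_⟩
    simp only [pdL, LinearMap.comp_apply, Derivation.coeFn_coe, h, coeff_pderiv, List.map_cons, List.sum_cons]
    rw [show p + (Finsupp.single i 1 + (l.map fun i => Finsupp.single i 1).sum) =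
      p + (l.map fun i => Finsupp.single i 1).sum + Finsupp.single i 1 by abel]
    push_cast
    ring

theorem phi_derL {κ : Type*} [DecidableEq κ] (b : κ → B) : ∀ (l : List σ) (t : Finset κ), l.length ≤ t.card →
    phi (derL s l) (∏ j ∈ t, zeta A (b j)) =
      constantCoeff (pdL l (∏ j ∈ t, lin s (KaehlerDifferential.D A B (b j)))) •
        (LinearMap.id : B →ₗ[A] B)
  | [], t, _ => by
    rcases t.eq_empty_or_nonempty with rfl | ⟨c, hc⟩
    · ext m; simp [derL, pdL, Algebra.TensorProduct.one_def]
    · have h0 : constantCoeff (lin s (KaehlerDifferential.D A B (b c))) = 0 :=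
        (isHomogeneous_lin s _).coeff_eq_zero (by simp)
      rw [← Finset.insert_erase hc, Finset.prod_insert (Finset.notMem_erase _ _),
        Finset.prod_insert (Finset.notMem_erase _ _), mul_comm (zeta A (b c)), ← phi_phi, pdL,
        LinearMap.id_apply, map_mul, h0, zero_mul, zero_smul]
      have h1 : phi (derL s ([] : List σ)) (zeta A (b c)) = 0 := by
        ext m
        simp [derL, zeta, mul_comm]
      rw [h1]
      generalize (∏ j ∈ t.erase c, zeta A (b j)) = y
      induction y using TensorProduct.induction_on with
      | zero => simp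
      | tmul b c => ext m; simp
      | add y y' h h' => rw [map_add, h, h', add_zero]
  | i :: l, t, h => by
    simp only [List.length_cons] at h
    rw [derL, phi_der_comp, phi_derL b l t (by omega)]
    have h0 : constantCoeff (pdL l (∏ j ∈ t, lin s (KaehlerDifferential.D A B (b j)))) = 0 := by
      classical
      obtain ⟨c, -, hc⟩ := exists_coeff_pdL (B := B) l 0
      have hh : (∏ j ∈ t, lin s (KaehlerDifferential.D A B (b j))).IsHomogeneous t.card := by
        have := IsHomogeneous.prod t (fun j => lin s (KaehlerDifferential.D A B (b j))) (fun _ => 1)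
          fun j _ => isHomogeneous_lin s _
        simpa using this
      have hdeg : Finsupp.degree (l.map fun i => Finsupp.single i 1).sum = l.length := by
        rw [map_list_sum, List.map_map]
        simp [Function.comp_def]
      rw [constantCoeff_eq, hc, zero_add, hh.coeff_eq_zero (by rw [hdeg]; omega), mul_zero]
    rw [h0, zero_smul, LinearMap.comp_zero, zero_add, pdL, LinearMap.comp_apply, Derivation.coeFn_coe, pderiv_prod,
      map_sum, map_sum, Finset.sum_smul]
    refine Finset.sum_congr rfl fun j hj => ?_
    rw [phi_derL b l (t.erase j) (by rw [Finset.card_erase_of_mem hj]; omega), pderiv_lin, ← smul_eq_C_mul,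
      map_smul, ← constantCoeff_C (σ := σ) (der s i (b j)), smul_smul, ← map_mul, smul_eq_C_mul]
    rfl

theorem ord_derL : ∀ l : List σ, IsDiffOpLE A B B B l.length (derL s l)
  | [] => ord_zero_iff.2 fun b => by ext m; simp [derL, DiffOp.commutator_apply]
  | i :: l => by
    have h1 : IsDiffOpLE A B B B 1 (der s i).toLinearMap := ord_succ_iff.2 fun b => ord_zero_iff.2 fun c => by
      ext m
      simp only [DiffOp.commutator_apply, LinearMap.zero_apply, Derivation.coeFn_coe, smul_eq_mul,
        Derivation.leibniz]
      ring
    exact ord_comp (ord_derL l) h1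

theorem gS_eq_zero_of_rat [Algebra ℚ B] (hrs : ∀ ω, r (s ω) = ω) (κ : Type u) [Fintype κ]
    (x : SymmetricPower B κ (KaehlerDifferential A B)) (hx : rep r (gS s κ x) ∈ II ^ (Fintype.card κ + 1)) :
    gS s κ x = 0 := by
  classical
  ext p
  rw [coeff_zero]
  by_cases hp : Finsupp.degree p = Fintype.card κ
  swap
  · exact (isHomogeneous_gS s x).coeff_eq_zero hp
  let l : List σ := (Finsupp.toMultiset p).toList
  have hlp : (l.map fun i => Finsupp.single i 1).sum = p := by
    rw [← Multiset.sum_coe, ← Multiset.map_coe, Multiset.coe_toList]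
    clear hp
    induction p using Finsupp.induction with
    | zero => simp
    | single_add a n f _ _ ih =>
      rw [map_add, Multiset.map_add, Multiset.sum_add, Finsupp.toMultiset_single]
      refine congrArg₂ (· + ·) ?_ ih
      simp [Multiset.map_nsmul, Multiset.sum_nsmul, Finsupp.smul_single]
  have hlen : l.length = Fintype.card κ := by
    rw [← hp]
    conv_rhs => rw [← hlp]
    rw [map_list_sum, List.map_map]
    simp [Function.comp_def]
  let E : SymmetricPower B κ (KaehlerDifferential A B) →ₗ[B] B :=
    { toFun := fun y => phi (derL s l) (rep r (gS s κ y)) 1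
      map_add' := fun y z => by simp
      map_smul' := fun c y => by
        rw [map_smul, map_smul, Algebra.smul_def, Algebra.TensorProduct.algebraMap_apply]
        generalize rep r (gS s κ y) = w
        simp only [RingHom.id_apply, smul_eq_mul, Algebra.algebraMap_self_apply]
        induction w using TensorProduct.induction_on with
        | zero => simp
        | tmul u v => simp [Algebra.TensorProduct.tmul_mul_tmul, mul_assoc]
        | add u v h h' => simp only [mul_add, map_add, LinearMap.add_apply, h, h'] }
  let G : SymmetricPower B κ (KaehlerDifferential A B) →ₗ[B] B :=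
    (lcoeff B 0) ∘ₗ pdL l ∘ₗ gS s κ
  have hann := (ord_iff_le_ann).1 (ord_derL s l)
  rw [hlen] at hann
  have hEG : E = G := sym_ext_D fun b => by
    change phi (derL s l) _ 1 = constantCoeff (pdL l _)
    have h1 : phi (derL s l) (rep r (gS s κ (SymmetricPower.tprod B fun j => KaehlerDifferential.D A B (b j))) -
        ∏ j, zeta A (b j)) = 0 := hann (rep_gS_tprod_sub_mem s r hrs b)
    rw [map_sub, sub_eq_zero] at h1
    rw [h1, phi_derL s b l Finset.univ (by simp [hlen]), gS_tprod]
    simp
  have h2 : constantCoeff (pdL l (gS s κ x)) = 0 := by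
    have := LinearMap.congr_fun hEG x
    change phi (derL s l) _ 1 = constantCoeff (pdL l _) at this
    rw [← this, show phi (derL s l) (rep r (gS s κ x)) = 0 from hann hx, LinearMap.zero_apply]
  obtain ⟨c, hc, hcq⟩ := exists_coeff_pdL (B := B) l 0
  rw [constantCoeff_eq, hcq, zero_add, hlp] at h2
  have hu : IsUnit (c : B) := by
    rw [← map_natCast (algebraMap ℚ B)]
    exact (IsUnit.mk0 (c : ℚ) (Nat.cast_ne_zero.2 hc)).map _
  exact (IsUnit.mul_right_eq_zero hu).1 h2

end Groth.Agent.PParts
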